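import Cfsg.Agent.Lib.SPD.Cp

/-!
# S3129, case `δ`: lines `Ln D a z`, the groups `A = Ar D a z`, strong closure.
-/

set_option autoImplicit false
set_option linter.unusedSectionVars false

namespace Cfsg.Lib.SPD

open Subgroup Cfsg.Lib.BG
open scoped Matrix

variable {k : ℕ} {F G : Type*} [Field F] [Finite F] [CharP F 2] [Group G] [Finite G] {D : Set G} {ψ : J k F →* G}
  {a a' b c d e g p x y z r : G} {u v w : V k F} {l m : F}

theorem ln_self (ha : a ∈ La D z) : a ∈ Ln D a z := ⟨ha, .refl a⟩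

theorem ln_Ar (hd : d ∈ Ln D a z) : d ∈ Ar D a z := subset_closure hd

theorem Ar_le : Ar D a z ≤ 𝐂[z] := (closure_le _).2 fun _ h => mem_centralizer_singleton_iff.2 h.1.2.1

theorem Ch.ln2 (h : Ch D ψ a) (l m : F) : a * (pt ψ a (l • v) * pt ψ a (m • v)) = pt ψ a ((l + m) • v) := by
  rw [h.pt_mul, pt]; simpa [T_zero] using congrArg ψ (TT_add (zero_B v) l m)

namespace Dl

variable (s : Dl k F D)
include s

/-- The chart form of `a ∈ La D z`. -/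
theorem la_ch (hz : z ≠ 1) (ha : a ∈ La D z) : ∃ ψ : J k F →* G, Ch D ψ a ∧ ∃ v, v ≠ 0 ∧ z = ψ (T v) ∧ a * z = pt ψ a v ∧
    (∀ d, d ∈ Ln D a z ↔ ∃ l : F, d = pt ψ a (l • v)) ∧ ∀ u, Commute (pt ψ a u) z ↔ B u v = 0 := by
  obtain ⟨ψ, h⟩ := s.ch a ha.1
  obtain ⟨v, e⟩ := h.ex ha.2.2 ((Commute.refl a).mul_right ha.2.1)
  have v0 : v ≠ 0 := fun i => hz (by simpa [i, pt_zero] using e)
  obtain rfl : z = a * pt ψ a v := by rw [← e, ← mul_assoc, h.c2, one_mul]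
  exact ⟨ψ, h, v, v0, h.c_mul v, e, fun _ => s.ln0 h v0, fun u => ⟨fun c => h.pt_comm.1 (by simpa using (h.pt_cm u).symm.inv_right.mul_right c),
    fun c => (h.pt_cm u).symm.mul_right (h.pt_comm.2 c)⟩⟩

/-- `uniq`, `cp_cm`. -/
theorem ln_iff (hz : z ≠ 1) (ha : a ∈ La D z) : d ∈ Ln D a z ↔ d ∈ La D z ∧ d ∈ Cp D a := ⟨fun h => ⟨h.1, cp_cm h.1.1 h.2⟩, fun h => ⟨h.1, s.uniq hz ha h.1 h.2⟩⟩

theorem ln_mul (ha : a ∈ La D z) : a * z ∈ Ln D a z := ⟨La.mul ha (s.la_sq ha), (Commute.refl a).mul_right ha.2.1⟩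

theorem z_Ar (ha : a ∈ La D z) : z ∈ Ar D a z := (mul_mem_cancel_left (ln_Ar (ln_self ha))).1 (ln_Ar (s.ln_mul ha))

theorem ln_eq (hz : z ≠ 1) (ha : a ∈ La D z) (hd : d ∈ Ln D a z) : Ln D d z = Ln D a z := Set.ext fun _ => by
  rw [s.ln_iff hz hd.1, s.ln_iff hz ha, s.cp_eq ha.1 (cp_cm hd.1.1 hd.2)]

theorem ln_cj (hz : z ≠ 1) (ha : a ∈ La D z) (hg : g ∈ NX D a) (hc : Commute g z) (hd : d ∈ Ln D a z) : g * d * g⁻¹ ∈ Ln D a z := (s.ln_iff hz ha).2 ⟨by simpa only [hc.eq, mul_inv_cancel_right] using La.conj s.cj hd.1 g, nx_cj hg (cp_cm hd.1.1 hd.2)⟩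

theorem Ar_norm (hz : z ≠ 1) (ha : a ∈ La D z) : NX D a ⊓ 𝐂[z] ≤ 𝐍(Ar D a z) := fun g hg => mem_normalizer_fintype fun _ i =>
  (closure_le ((Ar D a z).comap (MulAut.conj g).toMonoidHom)).2 (fun _ j => ln_Ar (s.ln_cj hz ha hg.1 (mem_centralizer_singleton_iff.1 hg.2) j)) i

/-- `la_ch`: `{pt (l • v)} ∪ {ψ (T (l • v))}` is a subgroup (`TT_add` with `a = 0`). -/
theorem mem_Ar (hz : z ≠ 1) (ha : a ∈ La D z) : r ∈ Ar D a z ↔ r ∈ Ln D a z ∨ a * r ∈ Ln D a z := by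
  refine ⟨fun hr => ?_, fun h => h.elim ln_Ar fun h => (mul_mem_cancel_left (ln_Ar (ln_self ha))).1 (ln_Ar h)⟩
  obtain ⟨ψ, h, v, -, -, -, e, -⟩ := s.la_ch hz ha
  have k : ∀ x ∈ Ln D a z, ∀ r, r ∈ Ln D a z ∨ a * r ∈ Ln D a z → x * r ∈ Ln D a z ∨ a * (x * r) ∈ Ln D a z := fun x hx r i => by
    obtain ⟨l, rfl⟩ := (e x).1 hx
    obtain i | i := i <;> obtain ⟨m, f⟩ := (e _).1 i
    · exact .inr ((e _).2 ⟨l + m, by rw [f, h.ln2]⟩)
    · exact .inl ((e _).2 ⟨l + m, by rw [← h.ln2, ← f, (h.pt_cm _).symm.left_comm, ← mul_assoc, h.c2, one_mul]⟩)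
  induction hr using closure_induction_left with
  | one => exact .inr (by simpa using ln_self ha)
  | mul_left x hx r _ i => exact k x hx r i
  | inv_mul_cancel x hx r _ i => rw [s.inv hx.1.1]; exact k x hx r i

theorem Ar_sq (hz : z ≠ 1) (ha : a ∈ La D z) (hr : r ∈ Ar D a z) : r * r = 1 := ((s.mem_Ar hz ha).1 hr).elim (fun h => s.sq h.1.1) fun h => by
  simpa only [(show Commute r a from mem_centralizer_singleton_iff.1 ((closure_le (centralizer {a})).2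
    (fun _ i => mem_centralizer_singleton_iff.2 i.2.symm) hr)).mul_mul_mul_comm, s.sq ha.1, one_mul] using s.sq h.1.1

theorem Ar_comm (hz : z ≠ 1) (ha : a ∈ La D z) (hr : r ∈ Ar D a z) (hx : x ∈ Ar D a z) : Commute r x := by
  rw [Commute, SemiconjBy, ← inv_eq_of_mul_eq_one_left (s.Ar_sq hz ha (mul_mem hr hx)), mul_inv_rev, inv_eq_of_mul_eq_one_left (s.Ar_sq hz ha hr),
    inv_eq_of_mul_eq_one_left (s.Ar_sq hz ha hx)]

theorem Ar_two (hz : z ≠ 1) (ha : a ∈ La D z) : IsPGroup 2 (Ar D a z) := fun x => ⟨1, Subtype.ext ((pow_two _).trans (s.Ar_sq hz ha x.2))⟩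

/-- `mem_Ar`, `Ch.nm`. -/
theorem Ar_ψ (h : Ch D ψ a) (hv : v ≠ 0) {j : J k F} (hj : ψ j ∈ Ar D a (ψ (T v))) : ∃ l : F, j = T (l • v) := by
  rw [← h.c_mul] at hj
  obtain i | i := (s.mem_Ar (fun e => hv (h.pt_inj ((mul_left_cancel (e.trans h.c2.symm)).trans pt_zero.symm))) (s.la_mk h.mem (h.pt_mem v) (h.pt_cm v))).1 hj <;>
    obtain ⟨l, e⟩ := (s.ln0 h hv).1 i
  exacts [absurd (by rw [map_mul, map_inv, e, pt, mul_inv_cancel_right]) (h.nm (j * (T (l • v))⁻¹)), ⟨l, h.inj (mul_left_cancel e)⟩]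

/-- `x` commutes with the line. -/
theorem Ar_cm (hz : z ≠ 1) (ha : a ∈ La D z) (hx : x ∈ D) (h1 : Commute x a) (h2 : Commute x z) (hr : r ∈ Ar D a z) : Commute x r := by
  obtain ⟨ψ, h, v, -, -, -, e, f⟩ := s.la_ch hz ha
  obtain ⟨u, rfl⟩ := h.ex hx h1.symm
  refine (mem_centralizer_singleton_iff.1 ((closure_le (centralizer {_})).2 (fun d i => ?_) hr)).symm
  obtain ⟨l, rfl⟩ := (e d).1 i
  exact mem_centralizer_singleton_iff.2 (h.pt_comm.2 (by rw [B_smul, (f u).1 h2, mul_zero])).symm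

/-- If `a r ∈ Ln D a z` then `a ∈ La D r`, `a ∈ La D (z r)` (`la_ch`, `TT_add`). -/
theorem Ar_la (hz : z ≠ 1) (ha : a ∈ La D z) (hr : a * r ∈ Ln D a z) : a ∈ La D r ∧ a ∈ La D (z * r) := by
  have c : Commute a r := by simpa using (Commute.refl a).inv_right.mul_right hr.2
  refine ⟨⟨ha.1, c, hr.1.1⟩, ha.1, ha.2.1.mul_right c, ?_⟩
  obtain ⟨ψ, h, v, -, -, p, e, -⟩ := s.la_ch hz ha
  obtain ⟨l, f⟩ := (e _).1 hr
  have := h.pt_mem ((1 + l) • v)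
  rwa [← h.ln2, one_smul, ← p, ← f, ← mul_assoc a, ← mul_assoc a, h.c2, one_mul, ha.2.1.symm.left_comm] at this

/-- `of_mem`, `ln_iff`. -/
theorem ofLa (hz : z ≠ 1) (ha : a ∈ La D z) (hd : d ∈ La D z) (h : d ∈ NX D a) : d ∈ Ln D a z := (s.ln_iff hz ha).2 ⟨hd, s.of_mem ha.1 hd.1 h⟩

/-- `b = a` if `r ∼ a`.  Otherwise `b ∼ a, a z, e` (`three`), `e' = e r`.  `r a r = e (e' a e') e` lies on the line (`ln_cj`), so `b ∼ r a r` (`Ar_cm`), `b ∼ e' a e'`, and `cm3` gives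
`b ∼ e'` or `a ∼ e'`.  In the second case `r a r = e a e ∼ a`, `cm_of_cj`, `r ∼ a`. -/
theorem g1a (hz : z ≠ 1) (ha : a ∈ La D z) (he : e ∈ La D r) (he' : e ∈ Cp D a) (h : Commute r z) : ∃ b ∈ Cp D a, Commute b r ∧ Commute b z := by
  have a1 := cp_self ha.1
  by_cases c : Commute a r
  · exact ⟨a, a1, c, ha.2.1⟩
  obtain ⟨b, hb, b1, b2, b3⟩ := s.three ha.1 a1 (cp_cm ha.2.2 (s.ln_mul ha).2) he'
  have bz : Commute b z := by simpa using b1.inv_right.mul_right b2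
  have ce := (Commute.refl e).mul_right he.2.1
  have hf := s.cp_adj ha.1 he' he.2.2 ce
  obtain ⟨f, rfl⟩ : ∃ f, r = e * f := ⟨_, (mul_inv_cancel_left e r).symm⟩
  rw [← mul_assoc, s.sq he.1, one_mul] at ce hf
  have l := s.ln_cj hz ha (mul_mem (s.mem_NX ha.1 he') (s.mem_NX ha.1 hf)) h (ln_self ha)
  rw [mul_inv_rev, s.inv he.1, s.inv hf.1] at l
  obtain i | i := s.cm3 ha.1 a1 hf hb b1 (by
    simpa [mul_assoc] using (b3.inv_right.mul_right (s.Ar_cm hz ha hb.1 b1 bz (ln_Ar l))).mul_right b3.inv_right)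
  · exact absurd ((s.cm_of_cj ha.1 a1 he' (by simpa [mul_assoc, i.symm.left_comm, ← mul_assoc f, s.sq hf.1] using l.2)).mul_right i) c
  · exact ⟨b, hb, b3.mul_right i, bz⟩

/-- `x' = x y`, `p ∼ x`, `¬ p ∼ x'` (`sep`), `p' = g p g`.  `fp_comm`: `p ∼ p'` and `p ∼ y p' y = x (x' p' x') x`, so `p ∼ x' p' x'`, `cm3` gives `p' ∼ x'`, so `p ∼ g x' g`.
If `g x' g ≠ x` then `x'` is on the line through `x`, `g x' g` (`la_ch`: `x' = pt v`, `g x' g = pt (l • v)`, `p = pt π`), so `p ∼ x'`. -/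
theorem qc (hy : y ≠ 1) (hx : x ∈ La D y) (hg : Commute g y) (h1 : Fp D x g) (h2 : Fp D x (y * g)) : g * x * g = x * y := by
  have l := s.ln_mul hx
  obtain ⟨p, hp, p1, p2⟩ := s.sep hx.1 l.1.1 (fun e => hy (left_eq_mul.1 e)) l.2
  have hp' := cp_cm hp p1.symm
  have gi : g⁻¹ = g := inv_eq_of_mul_eq_one_left h1.sq
  have c : Commute (g * p * g⁻¹) (x * y) := (s.cm3 hx.1 (nx_cj h1.nx hp') (cp_cm l.1.1 l.2) hp' (by rw [gi]; exact s.fp_comm hx.1 h1 hp') (by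
    have := (p1.mul_right (s.fp_comm hx.1 h2 hp')).mul_right p1
    rwa [show x * (y * g * p * (y * g)) * x = x * y * (g * p * g⁻¹) * (x * y) by
      rw [gi]; nth_rw 2 [← hg.eq, hx.2.1.eq]; simp only [mul_assoc]] at this)).resolve_right p2
  obtain ⟨ψ, h, v, -, -, q, e, -⟩ := s.la_ch hy hx
  obtain ⟨m, f⟩ := (e _).1 (s.ln_cj hy hx h1.nx hg l)
  obtain ⟨u, rfl⟩ := h.ex hp p1.symm
  have c' : Commute (pt ψ x u) (g * (x * y) * g⁻¹) := by simpa [mul_assoc, gi, ← mul_assoc g g, h1.sq] using c.map (MulAut.conj g)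
  rw [f, h.pt_comm, B_smul] at c'
  rw [(mul_eq_zero.1 c').resolve_right fun z => p2 (q ▸ h.pt_comm.2 z), zero_smul, pt_zero, gi] at f
  nth_rw 1 [← f]
  rw [← mul_assoc, ← mul_assoc, h1.sq, one_mul, mul_assoc, h1.sq, mul_one]

/-- If `b ∈ Cp D a` commutes with `r` then `fixD` in `H = C(r)` gives `e = h a' h⁻¹ ∈ Cp D b ∩ La D r`, and `g1a`. -/
theorem fp_of (hz : z ≠ 1) (ha : a ∈ La D z) (ha' : a' ∈ La D r) (h : Commute r z) (hr : r ∈ NX D a)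
    (hn : ∀ b ∈ Cp D a, Commute b r → ¬ Commute b z) : Fp D a r := ⟨hr, s.la_sq ha', fun b hb c => by
  obtain ⟨g, hg, e⟩ := s.fixD (H := 𝐂[r]) hb.1 (mem_centralizer_singleton_iff.2 c.symm) ha'.1 (mem_centralizer_singleton_iff.2 ha'.2.1)
  obtain ⟨d, hd, d1, d2⟩ := s.g1a hz ha (by simpa only [mem_centralizer_singleton_iff.1 hg, mul_inv_cancel_right] using La.conj s.cj ha' g) (s.cp_eq ha.1 hb ▸ e) h
  exact hn d hd d1 d2⟩

/-- Case 1: some `b ∈ Cp D a` commutes with `r`, `z`.  `fixD` in `H = C(z) ⊓ C(r)`: `e = h a' h⁻¹ ∈ Cp D a`; `e` and `e r = h (a' r) h⁻¹` lie in `La D z` and in `Cp D a`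
(`e ∼ e r`), so on the line, `r = e (e r)`.  Case 2: there is no such `b`.  `Fp D a r`, `Fp D a (z r)` (`fp_of`, `Ar_la`), so `r a r = a z` (`qc`), `a r a = z r`.
So `a ∈ H = normalizer {z, r, z r}` (or `N(closure {z, r})`), `a' ∈ H`, `fixD` gives `b = h a' h⁻¹ ∈ Cp D a`, which commutes with `z` and `r`. -/
theorem sc1 (hz : z ≠ 1) (ha : a ∈ La D z) (ha' : a' ∈ La D z) (h : a' * r ∈ Ln D a' z) (hr : r ∈ NX D a) : r ∈ Ar D a z := by
  have c : Commute r z := mem_centralizer_singleton_iff.1 (Ar_le ((s.mem_Ar hz ha').2 (.inr h)))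
  obtain ⟨l1, l2⟩ := s.Ar_la hz ha' h
  by_cases n : ∃ b ∈ Cp D a, Commute b r ∧ Commute b z
  · obtain ⟨b, hb, b1, b2⟩ := n
    obtain ⟨g, hg, e⟩ := s.fixD (H := 𝐂[z] ⊓ 𝐂[r]) hb.1 ⟨mem_centralizer_singleton_iff.2 b2, mem_centralizer_singleton_iff.2 b1⟩ ha'.1
      ⟨mem_centralizer_singleton_iff.2 ha'.2.1, mem_centralizer_singleton_iff.2 l1.2.1⟩
    rw [s.cp_eq ha.1 hb] at e
    have p := La.conj s.cj ha' g
    have q := La.conj s.cj h.1 g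
    rw [mem_centralizer_singleton_iff.1 hg.1, mul_inv_cancel_right] at p q
    have q' := ln_Ar ((s.ln_iff hz ha).2 ⟨q, s.cp_adj ha.1 e q.1 (h.2.map (MulAut.conj g))⟩)
    rw [← conj_mul, mem_centralizer_singleton_iff.1 hg.2, mul_inv_cancel_right] at q'
    exact (mul_mem_cancel_left (ln_Ar ((s.ln_iff hz ha).2 ⟨p, e⟩))).1 q'
  push Not at n
  have e := s.qc hz ha c (s.fp_of hz ha l1 c hr n) (s.fp_of hz ha l2 ((Commute.refl z).mul_left c) (mul_mem (s.nx_cm ha.1 (cp_self ha.1) ha.2.1.symm) hr)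
    fun b hb i j => n b hb (by simpa using j.inv_right.mul_right i) j)
  have z1 : z ∈ closure {z, r} := subset_closure (by simp)
  have r1 : r ∈ closure {z, r} := subset_closure (by simp)
  have c' : a' ∈ 𝐂(closure {z, r}) := (centralizer_closure _).ge (by rintro _ (rfl | rfl); exacts [ha'.2.1.symm, l1.2.1.symm])
  have t : r * z = a * r * a⁻¹ := by rw [eq_mul_inv_iff_mul_eq, mul_assoc, ← ha.2.1.eq, ← e, ← mul_assoc, ← mul_assoc, s.la_sq l1, one_mul]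
  obtain ⟨g, hg, f⟩ := s.fixD (H := 𝐍(closure {z, r})) ha.1 (mem_normalizer_fintype fun _ i =>
    (closure_le ((closure {z, r}).comap (MulAut.conj a).toMonoidHom)).2 (by
      rintro _ (rfl | rfl); exacts [by simpa [ha.2.1.eq] using z1, (t ▸ mul_mem r1 z1 :)]) i) ha'.1 (centralizer_le_normalizer _ c')
  have k : ∀ x ∈ closure {z, r}, Commute (g * a' * g⁻¹) x := fun x i => by
    simpa [mul_assoc] using (Commute.map (c' _ ((mem_normalizer_iff''.1 hg x).1 i)) (MulAut.conj g)).symm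
  exact absurd (k z z1) (n _ f (k r r1))

/-- `mem_Ar`; `ofLa` or `sc1` with `a' = g a g⁻¹`. -/
theorem sc (hz : z ≠ 1) (ha : a ∈ La D z) (hr : r ∈ Ar D a z) (hg : Commute g z) (h : g * r * g⁻¹ ∈ NX D a) : g * r * g⁻¹ ∈ Ar D a z := by
  have k : ∀ d ∈ La D z, g * d * g⁻¹ ∈ La D z := fun d i => by simpa only [hg.eq, mul_inv_cancel_right] using La.conj s.cj i g
  exact ((s.mem_Ar hz ha).1 hr).elim (fun i => ln_Ar (s.ofLa hz ha (k r i.1) h)) fun i =>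
    s.sc1 hz ha (k a ha) (by rw [conj_mul]; exact ⟨k _ i.1, i.2.map (MulAut.conj g)⟩) h

end Dl

end Cfsg.Lib.SPD
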