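import Cfsg.Agent.Lib.SPD.Ln

/-!
# S3129, case `δ`: components, their stabilizers `NX`, the groups `Mg`.  `X = Cp D a`.
-/

set_option autoImplicit false
set_option linter.unusedSectionVars false

namespace Cfsg.Lib.SPD

open Subgroup Cfsg.Lib.BG
open scoped Matrix

variable {k : ℕ} {F G : Type*} [Field F] [Finite F] [CharP F 2] [Group G] [Finite G] {D : Set G} {ψ ψ' : J k F →* G}
  {a b c c' d e g p x y z : G} {u v w : V k F} {l m : F}

/-- The centralizer of the component. -/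
abbrev CX (D : Set G) (a : G) : Subgroup G := centralizer (Cp D a)

theorem mem_CX : g ∈ CX D a ↔ ∀ x ∈ Cp D a, Commute g x := mem_centralizer_iff.trans (forall₂_congr fun _ _ => eq_comm)

theorem mul_Mg (hx : x ∈ Cp D a) (hy : y ∈ Cp D a) : x * y ∈ Mg D a := subset_closure ⟨x, hx, y, hy, rfl⟩

theorem nx_cj (hg : g ∈ NX D a) (hx : x ∈ Cp D a) : g * x * g⁻¹ ∈ Cp D a := (hg x).1 hx

theorem CX_le_NX : CX D a ≤ NX D a := fun _ h => mem_normalizer_fintype fun x m => by rwa [(mem_CX.1 h x m).eq, mul_inv_cancel_right]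

theorem NX_le_NC : NX D a ≤ 𝐍(CX D a) := le_norm_iff.2 fun g h c m => mem_CX.2 fun x hx => by
  simpa [mul_assoc] using (mem_CX.1 m _ (nx_cj (inv_mem h) hx)).map (MulAut.conj g)

theorem cj_Mg_of (h : ∀ x ∈ Cp D a, g * x * g⁻¹ ∈ Cp D b) : (Mg D a).map (MulAut.conj g).toMonoidHom ≤ Mg D b :=
  map_le_iff_le_comap.2 ((closure_le _).2 fun _ ⟨x, hx, y, hy, e⟩ => e ▸ mem_comap.2 (map_mul (MulAut.conj g).toMonoidHom x y ▸ mul_Mg (h x hx) (h y hy)))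

theorem NX_le_NM : NX D a ≤ 𝐍(Mg D a) := fun _ h => Transfer.mem_normalizer_of_conj_le (cj_Mg_of fun _ => nx_cj h)

theorem CX_le_CM : CX D a ≤ 𝐂(Mg D a) := cent_symm ((closure_le _).2 fun _ ⟨x, hx, y, hy, e⟩ => e ▸ mem_cent.2 fun _ h => (mem_CX.1 h x hx).mul_right (mem_CX.1 h y hy))

namespace Dl

variable (s : Dl k F D)
include s

theorem cp_conj (g : G) : g * y * g⁻¹ ∈ Cp D (g * a * g⁻¹) ↔ y ∈ Cp D a := by
  have k (g a y : G) : y ∈ Cp D a → g * y * g⁻¹ ∈ Cp D (g * a * g⁻¹) := fun ⟨h, c, hc, p, q⟩ =>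
    ⟨s.cj y h g, _, s.cj c hc g, p.map (MulAut.conj g), q.map (MulAut.conj g)⟩
  exact ⟨fun h => by simpa [mul_assoc] using k g⁻¹ _ _ h, k g a y⟩

/-- `cp_conj`, `cp_eq`. -/
theorem nx_iff (ha : a ∈ D) : g ∈ NX D a ↔ g * a * g⁻¹ ∈ Cp D a := ⟨fun h => nx_cj h (cp_self ha), fun h _ => (s.cp_conj g).symm.trans (by rw [s.cp_eq ha h])⟩

theorem nx_of (ha : a ∈ D) (hx : x ∈ Cp D a) (h : g * x * g⁻¹ ∈ Cp D a) : g ∈ NX D a := by
  rw [NX, ← s.cp_eq ha hx] at *; exact (s.nx_iff hx.1).2 h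

theorem nx_cm (ha : a ∈ D) (hx : x ∈ Cp D a) (h : Commute g x) : g ∈ NX D a := s.nx_of ha hx (by rwa [h.eq, mul_inv_cancel_right])

theorem mem_NX (ha : a ∈ D) (hx : x ∈ Cp D a) : x ∈ NX D a := s.nx_cm ha hx (.refl x)

theorem M_le_NX (ha : a ∈ D) : Mg D a ≤ NX D a := (closure_le _).2 fun _ ⟨_, hx, _, hy, e⟩ => e ▸ mul_mem (s.mem_NX ha hx) (s.mem_NX ha hy)

theorem NX_eq (ha : a ∈ D) (hb : b ∈ Cp D a) : NX D b = NX D a := by rw [NX, s.cp_eq ha hb]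

theorem Mg_eq (ha : a ∈ D) (hb : b ∈ Cp D a) : Mg D b = Mg D a := by rw [Mg, s.cp_eq ha hb, Mg]

theorem Mg_conj (g a : G) : (Mg D a).map (MulAut.conj g).toMonoidHom = Mg D (g * a * g⁻¹) := (cj_Mg_of fun _ => (s.cp_conj g).2).antisymm
  (Transfer.le_conj_iff_inv_conj_le.2 (cj_Mg_of fun x h => (s.cp_conj g).1 (by simpa [mul_assoc] using h)))

theorem cj_Mg (g : G) (h : y ∈ Mg D a) : g * y * g⁻¹ ∈ Mg D (g * a * g⁻¹) := s.Mg_conj g a ▸ Transfer.conj_mem_conj.2 h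

/-- `Mg_conj`, `Transfer.conj_eq_self_iff`. -/
theorem mem_NM : g ∈ 𝐍(Mg D a) ↔ Mg D (g * a * g⁻¹) = Mg D a := by rw [← s.Mg_conj, Transfer.conj_eq_self_iff]

theorem card_Mg (ha : a ∈ D) (hb : b ∈ D) : Nat.card (Mg D a) = Nat.card (Mg D b) := by
  obtain ⟨g, rfl⟩ := s.one a ha b hb; rw [← s.Mg_conj, Transfer.card_conj]

/-- `y = g x g⁻¹`, so `x y` is a commutator. -/
theorem M_le_comm (a : G) : Mg D a ≤ commutator G := (closure_le _).2 fun _ ⟨x, hx, y, hy, e⟩ => by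
  obtain ⟨g, rfl⟩ := s.one x hx.1 y hy.1
  have := comm_mem_comm (mem_top x) (mem_top g)
  rwa [s.inv hx.1, mul_assoc x, mul_assoc x, ← e] at this

/-- As `S6.mem_or_of_pairs`. -/
theorem mem_cl (ha : a ∈ D) (h : g ∈ closure (Cp D a)) : g ∈ Mg D a ∨ g * a ∈ Mg D a := by
  have k (x : G) (hx : x ∈ Cp D a) (y : G) (ih : y ∈ Mg D a ∨ y * a ∈ Mg D a) : y * x ∈ Mg D a ∨ y * x * a ∈ Mg D a :=
    ih.symm.imp (fun m => by simpa only [mul_assoc, ← mul_assoc a a, s.sq ha, one_mul] using mul_mem m (mul_Mg (cp_self ha) hx))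
      fun m => (mul_assoc y x a).symm ▸ mul_mem m (mul_Mg hx (cp_self ha))
  induction h using closure_induction_right with
  | one => exact .inl (one_mem _)
  | mul_right y _ x hx ih => exact k x hx y ih
  | mul_inv_cancel y _ x hx ih => exact (s.inv hx.1).symm ▸ k x hx y ih

/-- `T_gen`; `ψ (T v) = c * pt v`. -/
theorem ψ_mem (h : Ch D ψ c) (x : J k F) : ψ x ∈ Mg D c := (T_gen (H := (Mg D c).comap ψ) fun v => mem_comap.2
  (h.c_mul v ▸ mul_Mg (cp_self h.mem) (cp_cm (h.pt_mem v) (h.pt_cm v)))).ge (mem_top x)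

/-- `x y = (x c) (c y)` with `c` from `two`; if `x = c` the factor is `1`. -/
theorem M_le (ha : a ∈ D) {H : Subgroup G} (h : ∀ x ∈ Cp D a, ∀ y ∈ Cp D a, x ≠ y → Commute x y → x * y ∈ H) : Mg D a ≤ H := (closure_le _).2 fun _ ⟨x, hx, y, hy, e⟩ => by
  have k : ∀ x ∈ Cp D a, ∀ y ∈ Cp D a, Commute x y → x * y ∈ H := fun x hx y hy c =>
    (eq_or_ne x y).elim (fun e => by rw [← e, s.sq hx.1]; exact one_mem H) fun n => h x hx y hy n c
  obtain ⟨c, hc, p, q⟩ := s.two ha hx hy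
  simpa only [e, mul_assoc, ← mul_assoc c c, s.sq hc.1, one_mul, SetLike.mem_coe] using mul_mem (k x hx c hc p.symm) (k c hc y hy q)

theorem tr0 (hc : c ∈ D) (hx : x ∈ D) (hy : y ∈ D) (h1 : c ≠ x) (h2 : Commute c x) (h3 : c ≠ y) (h4 : Commute c y) :
    ∃ g ∈ Mg D c, g * c * g⁻¹ = c ∧ g * x * g⁻¹ = y := by
  obtain ⟨ψ, h⟩ := s.ch c hc
  obtain ⟨u, rfl⟩ := h.ex hx h2
  obtain ⟨v, rfl⟩ := h.ex hy h4
  obtain ⟨A, e⟩ := Symp.exists_sp_of_ne_zero (x := u) (y := v) (fun e => h1 (by rw [e, pt_zero])) fun e => h3 (by rw [e, pt_zero])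
  exact ⟨ψ A, s.ψ_mem h A, by rw [← (h.cm A).eq, mul_inv_cancel_right], by rw [h.ψ_cj, e]⟩

/-- If `¬ x ∼ y`: `odd_of`, `Inv.exists_pow_conj_of_odd`.  If `x ∼ y`: `c = pt u` in a chart at `x`, `u` from `off2`, commutes with `x`, `y` and differs from them;
in a chart at `c` use `Symp.exists_sp_of_ne_zero`, `ψ_cj`, `ψ_mem`. -/
theorem tr1 (ha : a ∈ D) (hx : x ∈ Cp D a) (hy : y ∈ Cp D a) : ∃ g ∈ Mg D a, g * x * g⁻¹ = y := by
  by_cases n : Commute x y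
  · obtain ⟨ψ, h⟩ := s.ch x hx.1
    obtain ⟨v, rfl⟩ := h.ex hy.1 n
    obtain ⟨u, ⟨p, -⟩, q⟩ := off2 s.hk v 0 0 0 v
    obtain ⟨g, m, -, e⟩ := s.tr0 (h.pt_mem u) hx.1 hy.1 (fun e => q 0 0 (by rw [h.pt_inj (e.trans pt_zero.symm)]; simp)) (h.pt_cm u).symm
      (fun e => q 0 1 (by rw [h.pt_inj e]; simp)) (h.pt_comm.2 p)
    exact ⟨g, s.Mg_eq ha (s.cp_adj ha hx (h.pt_mem u) (h.pt_cm u)) ▸ m, e⟩
  · obtain ⟨i, e⟩ := Inv.exists_pow_conj_of_odd (s.sq hx.1) (s.sq hy.1) (s.odd_of ha hx hy n)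
    exact ⟨_, pow_mem (mul_Mg hx hy) i, e⟩

/-- `tr1`, then `Symp.exists_sp_of_ne_zero` in a chart at `x'`. -/
theorem tr2 (ha : a ∈ D) {x' y' : G} (hx : x ∈ Cp D a) (hy : y ∈ D) (hx' : x' ∈ Cp D a) (hy' : y' ∈ D) (h1 : x ≠ y) (h2 : Commute x y)
    (h3 : x' ≠ y') (h4 : Commute x' y') : ∃ g ∈ Mg D a, g * x * g⁻¹ = x' ∧ g * y * g⁻¹ = y' := by
  obtain ⟨g, m, rfl⟩ := s.tr1 ha hx hx'
  obtain ⟨f, m', e, e'⟩ := s.tr0 hx'.1 (s.cj y hy g) hy' (fun e => h1 ((MulAut.conj g).injective e)) (h2.map (MulAut.conj g)) h3 h4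
  exact ⟨f * g, mul_mem (s.Mg_eq ha hx' ▸ m') m, by rw [← e]; group, by rw [← e']; group⟩

/-- `g` inverts `r = d * (g d g)` of order `2 m + 1`, `g d g = d r`, so `g` centralizes `r ^ m * d = r ^ n * d * (r ^ n)⁻¹`, `n = m (m + 1)`
(compare the end of `S6.Gd.wmul` in `Lib/S6/D4`). -/
theorem odd_fix (hd : d ∈ D) (g2 : g * g = 1) (h : Odd (orderOf (d * (g * d * g)))) :
    ∃ n : ℕ, Commute g ((d * (g * d * g)) ^ n * d * ((d * (g * d * g)) ^ n)⁻¹) := by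
  obtain ⟨m, hm⟩ := h
  have gi := inv_eq_of_mul_eq_one_right g2
  have e0 : g * d * g⁻¹ = d * (d * (g * d * g)) := by rw [← mul_assoc, s.sq hd, one_mul, gi]
  have e1 : g * (d * (g * d * g)) * g⁻¹ = (d * (g * d * g))⁻¹ := by simp only [mul_inv_rev, gi, s.inv hd, mul_assoc, g2, mul_one]
  have e2 : d * (d * (g * d * g)) * d⁻¹ = (d * (g * d * g))⁻¹ := by simp only [mul_inv_rev, gi, s.inv hd, ← mul_assoc, s.sq hd, one_mul]
  have e3 : (d * (g * d * g)) ^ (4 * (m * (m + 1)) + 1) = 1 := orderOf_dvd_iff_pow_eq_one.1 ⟨2 * m + 1, by rw [hm]; ring⟩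
  refine ⟨m * (m + 1), mul_inv_eq_iff_eq_mul.1 ?_⟩
  generalize d * (g * d * g) = r, m * (m + 1) = n at *
  rw [← conj_mul, ← conj_mul, ← conj_inv, Inv.conj_pow_of_inv e1, e0, inv_inv]
  calc _ = (r ^ n)⁻¹ * (d * r ^ (2 * n) * d⁻¹)⁻¹ * d * r ^ (4 * n + 1) * (r ^ n)⁻¹ := by group
    _ = _ := by rw [Inv.conj_pow_of_inv e2, e3]; group

theorem pow_mem_D (n : ℕ) : ∀ x ∈ D, ∀ y ∈ D, (x * y) ^ n * x ∈ D := by
  induction n with
  | zero => exact fun x hx _ _ => by rwa [pow_zero, one_mul]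
  | succ n ih => exact fun x hx y hy => by rw [pow_succ, ← mul_assoc, mul_pow_mul, mul_assoc x]; exact s.cj' hx (ih y hy x hx)

/-- The central involution of a dihedral group (`Inv.half_pow_of_even`, `isConj_zpow_mul`); it is a power of `x y`. -/
theorem even_la (hx : x ∈ D) (hy : y ∈ D) (h : Even (orderOf (x * y))) :
    ∃ n : ℕ, (x * y) ^ n ≠ 1 ∧ x ∈ La D ((x * y) ^ n) ∧ y ∈ La D ((x * y) ^ n) := by
  obtain ⟨p, q, r⟩ := Inv.half_pow_of_even (s.sq hx) (s.sq hy) h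
  exact ⟨_, fun e => by simp [e] at p, ⟨hx, q.symm, q.eq ▸ s.pow_mem_D _ x hx y hy⟩, hy, r.symm, mul_pow_mul y x _ ▸ s.pow_mem_D _ y hy x hx⟩

/-- `odd_of`, `odd_fix`. -/
theorem fp_comm (ha : a ∈ D) (h : Fp D a g) (hx : x ∈ Cp D a) : Commute x (g * x * g) := by_contra fun n => by
  have m : g * x * g ∈ Cp D a := by simpa only [inv_eq_of_mul_eq_one_right h.sq] using nx_cj h.nx hx
  obtain ⟨i, e⟩ := s.odd_fix hx.1 h.sq (s.odd_of ha hx m n)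
  exact h.nc _ (nx_cj (s.M_le_NX ha (pow_mem (mul_Mg hx m) i)) hx) e

/-- Suppose `y ∉ X`; then `Fp D a y` (`cp_adj`).  For `b ∈ X` put `b' = y b y ∼ b`, `z_b = b b' ≠ 1`; `y z_b = (y b) y (y b)⁻¹ ∈ D` commutes with `y`, so
`z_b = ψ' (T n_b)`, `n_b ≠ 0`, in a chart `ψ'` at `y`.  If `b ∼ a, a'` then `a, a', b, b'` commute, `y z_a z_b = (y a b) y (y a b)⁻¹ = pt' w`, `T 0 * T w = T n_a * T n_b`,
so `n_b = l • n_a` (`T_inj` if `w = 0`, else `TT_eq`).  In a chart at `a` with `a' = pt ξ`: for `u ⊥ ξ`, `b = pt u`, `b' = pt u'`.  For each `l` choose (if possible) `u = p l`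
with `z_b = ψ' (T (l • n_a))`, `d l = u + u'`; any other `u₁` with the same `z` has `u₁ = p l + m • d l` (`Ch.la`).  This contradicts `cover`. -/
theorem of_mem (ha : a ∈ D) (hy : y ∈ D) (h : y ∈ NX D a) : y ∈ Cp D a := by_contra fun hn => by
  have y2 := s.sq hy
  have F0 : Fp D a y := ⟨h, y2, fun x hx c => hn (s.cp_adj ha hx hy c.symm)⟩
  have yy : ∀ g, y * (y * g * y) * y = g := fun g => by simp only [← mul_assoc, y2, one_mul]; rw [mul_assoc, y2, mul_one]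
  have cc : ∀ {f g : G}, Commute f g → Commute (y * f * y) (y * g * y) := fun c => by simpa only [MulAut.conj_apply, s.inv hy] using c.map (MulAut.conj y)
  have nz : ∀ x ∈ Cp D a, x ≠ y * x * y := fun x hx e => F0.nc x hx (by rw [Commute, SemiconjBy, ← mul_one (y * x), ← y2, ← mul_assoc, ← e])
  obtain ⟨φ, hφ⟩ := s.ch y hy
  obtain ⟨ψ, hψ⟩ := s.ch a ha
  have k0 : ∀ g : G, g * g = 1 → Commute g (y * g * y) → ∃ w, g * (y * g * y) = φ (T w) := fun g g2 c => by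
    have e : y * g * y * (y * g)⁻¹ = y * (g * (y * g * y)) := by simp only [mul_inv_rev, inv_eq_of_mul_eq_one_right g2, s.inv hy, mul_assoc]
    obtain ⟨w, e'⟩ := hφ.ex (e ▸ s.cj y hy (y * g)) ((Commute.refl y).mul_right
      ((by simp only [mul_assoc] : y * (g * (y * g * y)) = y * g * y * g * y).trans (congrArg (· * y) c.eq.symm)))
    exact ⟨w, mul_left_cancel e'⟩
  have A := cp_self ha
  have aa := s.fp_comm ha F0 A
  obtain ⟨n, en⟩ := k0 a (s.sq ha) aa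
  obtain ⟨ξ, eξ⟩ := hψ.ex (s.cj' hy ha) aa
  have n0 : ∀ x ∈ Cp D a, x * (y * x * y) ≠ φ (T 0) := fun x hx e => nz x hx (by rw [T_zero, map_one] at e; rw [← inv_eq_of_mul_eq_one_right e, s.inv hx.1])
  have U : ∀ u, pt ψ a u ∈ Cp D a := fun u => cp_cm (hψ.pt_mem u) (hψ.pt_cm u)
  have k1 : ∀ u, B u ξ = 0 → ∃ l : F, pt ψ a u * (y * pt ψ a u * y) = φ (T (l • n)) := fun u hu => by
    have c1 := hψ.pt_cm u
    have c2 : Commute (pt ψ a u) (y * a * y) := eξ ▸ hψ.pt_comm.2 hu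
    have c3 := s.fp_comm ha F0 (U u)
    have c4 : Commute (y * pt ψ a u * y) a := by simpa only [yy] using cc c2
    have hb := U u
    generalize pt ψ a u = b at *
    have e : y * (a * b) * y = y * a * y * (y * b * y) := by simp only [mul_assoc, ← mul_assoc y y, y2, one_mul]
    obtain ⟨n', en'⟩ := k0 b (s.sq hb.1) c3
    obtain ⟨w, ew⟩ := k0 (a * b) (by rw [c1.symm.mul_mul_mul_comm, s.sq ha, s.sq hb.1, one_mul])
      (e ▸ (aa.mul_right c4.symm).mul_left (c2.mul_right c3))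
    rw [e, c2.mul_mul_mul_comm, en, en', ← map_mul, hφ.inj.eq_iff, ← one_mul (T w), ← T_zero] at ew
    by_cases ne : n = n'
    · exact ⟨1, by rw [one_smul, en', ne]⟩
    obtain ⟨-, l, el⟩ := TT_eq (T_comm.1 (Commute.of_map hφ.inj (en ▸ en' ▸ (c1.mul_right c4.symm).mul_left (c2.symm.mul_right (cc c1))))) (zero_B w) ne ew
    have l0 : l ≠ 0 := fun e => n0 a A (by rw [en, el, e, zero_smul, add_zero])
    exact ⟨(1 + l) / l, by rw [en']; congr 2; vcu el⟩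
  have k2 : ∀ l : F, ∃ p d : V k F, ∀ u, B u ξ = 0 → pt ψ a u * (y * pt ψ a u * y) = φ (T (l • n)) → ∃ m : F, u = p + m • d := fun l => by
    by_cases h0 : ∃ u, B u ξ = 0 ∧ pt ψ a u * (y * pt ψ a u * y) = φ (T (l • n))
    · obtain ⟨p, hp, e⟩ := h0
      obtain ⟨p', e'⟩ := hψ.ex (s.cj' hy (hψ.pt_mem p)) (by simpa only [yy] using cc (eξ ▸ hψ.pt_comm.2 hp : Commute (pt ψ a p) (y * a * y)).symm)
      exact ⟨p, p + p', fun u _ f => hψ.la (w := u) (hψ.pt_comm.1 (e' ▸ s.fp_comm ha F0 (U p))) (fun e => nz _ (U p) (by rw [e', e]))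
        (by rw [← e', e, ← f]; exact s.la_mk (hψ.pt_mem u) (s.cj' hy (hψ.pt_mem u)) (s.fp_comm ha F0 (U u)))⟩
    · exact ⟨0, 0, fun u hu f => (h0 ⟨u, hu, f⟩).elim⟩
  choose p d hp using k2
  exact cover s.hk ξ p d fun u hu => (k1 u hu).imp fun l => hp l u hu

/-- `H = P ⊓ NX D d`.  If `H < P`, take `g ∈ P ⊓ N(H)` outside `H` (normalizer condition); `g d g⁻¹ ∈ D ∩ H` lies in `Cp D d` (`of_mem`), `nx_iff`. -/
theorem p2 {P : Subgroup G} (hP : IsPGroup 2 P) (hd : d ∈ D) (h : d ∈ P) : P ≤ NX D d := by_contra fun n => by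
  obtain ⟨g, ⟨m, m'⟩, hg⟩ := SetLike.exists_of_lt (Transfer.lt_inf_normalizer_of_lt hP (inf_lt_left.2 n))
  exact hg ⟨m, (s.nx_iff hd).2 (s.of_mem hd (s.cj d hd g) (conj_mem_of_norm m' ⟨h, s.mem_NX hd (cp_self hd)⟩).2)⟩

/-- A Sylow subgroup `P` of `H` contains `d`; `R` is conjugate into `P` in `H`; `p2` for the conjugate of `P` that contains `R`. -/
theorem fix2 {R H : Subgroup G} (hR : IsPGroup 2 R) (hRH : R ≤ H) (hd : d ∈ D) (h : d ∈ H) : ∃ g ∈ H, R ≤ NX D (g * d * g⁻¹) := by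
  obtain ⟨P, h1, h2, h3, h4⟩ := Transfer.exists_sylowIn_ge (Inv.isPGroup_zpowers_of_mul_self (s.sq hd)) (zpowers_le.2 h)
  obtain ⟨g, m, e⟩ := Transfer.exists_conj_le_of_not_dvd_relIndex' h4 hR hRH
  exact ⟨g⁻¹, inv_mem m, (Transfer.conj_le_iff_le_inv_conj.1 e).trans
    (s.p2 (Transfer.isPGroup_conj h3 _) (s.cj d hd _) (Transfer.conj_mem_conj.2 (h1 (mem_zpowers d))))⟩

/-- `fix2` with `R = zpowers y`. -/
theorem fix1 {H : Subgroup G} (y2 : y * y = 1) (hy : y ∈ H) (hd : d ∈ D) (h : d ∈ H) : ∃ g ∈ H, y ∈ NX D (g * d * g⁻¹) := (s.fix2 (Inv.isPGroup_zpowers_of_mul_self y2) (zpowers_le.2 hy) hd h).imp fun _ e => ⟨e.1, e.2 (mem_zpowers y)⟩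

/-- `fix1`, `of_mem`, `cp_eq`. -/
theorem fixD {H : Subgroup G} (hy : y ∈ D) (hyH : y ∈ H) (hd : d ∈ D) (h : d ∈ H) : ∃ g ∈ H, g * d * g⁻¹ ∈ Cp D y := (s.fix1 (s.sq hy) hyH hd h).imp fun g ⟨m, e⟩ =>
  ⟨m, (s.cp_eq (s.cj d hd g) (s.of_mem (s.cj d hd g) hy e)).ge (cp_self (s.cj d hd g))⟩

/-- In a chart at `a`: `Ch.cen`, `kinv`; `nadj`. -/
theorem cX_inv (ha : a ∈ D) (hg : g ∈ CX D a) (g2 : g * g = 1) : g = 1 := by
  obtain ⟨ψ, h⟩ := s.ch a ha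
  obtain ⟨y, hy, n⟩ := s.nadj ha (cp_self ha)
  exact (h.kinv g (mem_CX.1 hg a (cp_self ha)) (h.cen fun v => mem_CX.1 hg _ (cp_cm (h.pt_mem v) (h.pt_cm v))) g2).resolve_right fun e => n (mem_CX.1 (e ▸ hg :) y hy)

theorem cX_odd (ha : a ∈ D) : Odd (Nat.card (CX D a)) := Inv.odd_card_iff.2 fun t m e => by
  rw [s.cX_inv ha m (by rw [← pow_two, ← e, pow_orderOf_eq_one]), orderOf_one] at e; exact absurd e (by decide)

theorem cX_two (ha : a ∈ D) (hg : g ∈ CX D a) {n : ℕ} (h : g ^ 2 ^ n = 1) : g = 1 := orderOf_eq_one_iff.1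
  (((Inv.odd_orderOf_of_mem (s.cX_odd ha) hg).coprime_two_right.pow_right n).eq_one_of_dvd (orderOf_dvd_of_pow_eq_one h))

/-- The fixed points of `t` on `D`: `pt` is a bijection from `V`. -/
theorem even_cm (ha : a ∈ D) : Even {x | x ∈ D ∧ Commute a x}.ncard := by
  obtain ⟨ψ, h⟩ := s.ch a ha
  rw [show {x | x ∈ D ∧ Commute a x} = Set.range (pt ψ a) from Set.ext fun x => (h.dx x).trans (exists_congr fun _ => eq_comm), Set.ncard_range_of_injective fun _ _ => h.pt_inj]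
  exact even_iff_two_dvd.2 (addOrderOf_eq_prime (x := (fun _ => 1 : V k F)) ((two_nsmul _).trans (v2 (F := F) _))
    (fun e => one_ne_zero (congrFun e (.inl ⟨0, by have := s.hk; omega⟩))) ▸ addOrderOf_dvd_natCard _)

end Dl

end Cfsg.Lib.SPD
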