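import Cfsg.Agent.Lib.GW.Basic
import Cfsg.Agent.Lib.Symp.Aut
import Cfsg.Agent.Lib.Orth.Basic

/-!
# S3129, case `δ` (`t ~ t b₁` only): definitions.  See `docs/SPD.md`.
`D` is a class of involutions; the members of `D` commuting with `c ∈ D` are the points `pt ψ c v = c * ψ (T v)`, `v ∈ V = F^{2k}`.
-/

set_option autoImplicit false

namespace Cfsg.Lib.SPD

open Subgroup QuadraticMap

abbrev V (k : ℕ) (F : Type*) : Type _ := Fin k ⊕ Fin k → F

abbrev J (k : ℕ) (F : Type*) [Field F] : Type _ := Matrix.symplecticGroup (Fin k) F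

variable {k : ℕ} {F G : Type*} [Field F] [Group G]

/-- The transvection `x ↦ x + B x v • v`. -/
abbrev T (v : V k F) : J k F := Symp.tvSp v 1

noncomputable abbrev B (u v : V k F) : F := Symp.bil (Fin k) F u v

/-- The points of a chart. -/
def pt (ψ : J k F →* G) (c : G) (v : V k F) : G := c * ψ (T v)

/-- A chart at `c`. -/
structure Ch (D : Set G) (ψ : J k F →* G) (c : G) : Prop where
  c1 : c ≠ 1
  c2 : c * c = 1
  inj : Function.Injective ψ
  cm : ∀ x, Commute c (ψ x)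
  dx : ∀ g, g ∈ D ∧ Commute c g ↔ ∃ v, g = pt ψ c v
  kinv : ∀ g, Commute g c → (∀ x, Commute g (ψ x)) → g * g = 1 → g = 1 ∨ g = c

/-- The hypothesis of case `δ`. -/
structure Dl (k : ℕ) (F : Type*) [Field F] (D : Set G) : Prop where
  hk : 3 ≤ k
  cj : ∀ a ∈ D, ∀ g, g * a * g⁻¹ ∈ D
  one : ∀ a ∈ D, ∀ b ∈ D, ∃ g, g * a * g⁻¹ = b
  ch : ∀ c ∈ D, ∃ ψ : J k F →* G, Ch D ψ c

/-- The component of `a` in the commuting graph on `D` (it has diameter two). -/
def Cp (D : Set G) (a : G) : Set G := {y | y ∈ D ∧ ∃ c ∈ D, Commute a c ∧ Commute c y}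

/-- The stabilizer of the component. -/
abbrev NX (D : Set G) (a : G) : Subgroup G := normalizer (Cp D a)

/-- The even part of the group generated by the component. -/
def Mg (D : Set G) (a : G) : Subgroup G := closure {g | ∃ x ∈ Cp D a, ∃ y ∈ Cp D a, g = x * y}

/-- `z = d * (d z)` is a product of two commuting members of `D`. -/
def La (D : Set G) (z : G) : Set G := {d | d ∈ D ∧ Commute d z ∧ d * z ∈ D}

/-- The line through `a` and `a z`. -/
def Ln (D : Set G) (a z : G) : Set G := {d | d ∈ La D z ∧ Commute a d}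

/-- The group generated by a line. -/
def Ar (D : Set G) (a z : G) : Subgroup G := closure (Ln D a z)

/-- An involution that acts on the component of `a` without fixed points. -/
structure Fp (D : Set G) (a g : G) : Prop where
  nx : g ∈ NX D a
  sq : g * g = 1
  nc : ∀ x ∈ Cp D a, ¬ Commute g x

/-- Two charts agree. -/
def Ag (ψ : J k F →* G) (c : G) (ψ' : J k F →* G) (c' : G) : Prop :=
  ∀ u v u' v', pt ψ c u = pt ψ' c' u' → pt ψ c v = pt ψ' c' v' → B u v = B u' v'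

/-- The global form on a component. -/
def Bt (k : ℕ) (D : Set G) (a : G) (β : G → G → F) : Prop :=
  ∀ c ∈ Cp D a, ∃ ψ : J k F →* G, Ch D ψ c ∧ ∀ u v, β (pt ψ c u) (pt ψ c v) = B u v

/-- The component of `a` is the set of vectors of norm `1` of a quadratic space. -/
structure Md (k : ℕ) (D : Set G) (a : G) {W : Type*} [AddCommGroup W] [Module F W] (Q : QuadraticForm F W) (ι : G → W) : Prop where
  nd : Orth.ND Q
  dim : Module.finrank F W = 2 * (k + 1)
  one : ∀ x ∈ Cp D a, Q (ι x) = 1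
  sur : ∀ w, Q w = 1 → ∃ x ∈ Cp D a, ι x = w
  inj : ∀ x ∈ Cp D a, ∀ y ∈ Cp D a, ι x = ι y → x = y
  sp : ∀ w, (∀ x ∈ Cp D a, polar Q (ι x) w = 0) → w = 0
  cm : ∀ x ∈ Cp D a, ∀ y ∈ Cp D a, Commute x y ↔ polar Q (ι x) (ι y) = 0
  cj : ∀ x ∈ Cp D a, ∀ y ∈ Cp D a, ι (x * y * x) = ι y + polar Q (ι x) (ι y) • ι x
  ch : ∀ c ∈ Cp D a, ∃ ψ : J k F →* G, Ch D ψ c ∧ (∀ u v, polar Q (ι (pt ψ c u)) (ι (pt ψ c v)) = B u v) ∧
    ∀ (l : F) u v, B u v = 0 → ι (pt ψ c (u + l • v)) = ι (pt ψ c u) + l • (ι c + ι (pt ψ c v))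
  sl : ∀ g ∈ NX D a, ∃ (σ : F ≃+* F) (f : W →+ W), (∀ c w, f (c • w) = σ c • f w) ∧ (∀ x ∈ Cp D a, f (ι x) = ι (g * x * g⁻¹)) ∧
    ∀ v w, polar Q (f v) (f w) = σ (polar Q v w)

end Cfsg.Lib.SPD
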