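import Cfsg.Agent.Lib.SPD.Gl

/-!
# S3129, case `δ`: the calculus of the global form `β`.
-/

set_option autoImplicit false
set_option linter.unusedSectionVars false

namespace Cfsg.Lib.SPD

open Subgroup
open scoped Matrix

variable {k : ℕ} {F G : Type*} [Field F] [Finite F] [CharP F 2] [Group G] [Finite G] {D : Set G} {ψ ψ' : J k F →* G}
  {a b c c' d e g p x y z : G} {u v w : V k F} {l m r : F} {β : G → G → F} {W : Type*} [AddCommGroup W] [Module F W]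

/-- A chart that computes `β`. -/
def Gc (D : Set G) (β : G → G → F) (ψ : J k F →* G) (c : G) : Prop := Ch D ψ c ∧ ∀ u v, β (pt ψ c u) (pt ψ c v) = B u v

/-- `h` behaves like a linear function of the point. -/
def Lh (k : ℕ) (D : Set G) (a : G) (β : G → G → F) (h : G → W) : Prop :=
  ∀ c ∈ Cp D a, ∀ ψ : J k F →* G, Gc D β ψ c → (∀ (l : F) v, h (pt ψ c (l • v)) = (1 + l) • h c + l • h (pt ψ c v)) ∧
    ∀ (r : F) u v, r ^ 2 = B u v → h (pt ψ c (u + v)) = h (pt ψ c u) + h (pt ψ c v) + (1 + r) • h c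

theorem Lh.add {h h' : G → W} (h1 : Lh k D a β h) (h2 : Lh k D a β h') : Lh k D a β fun x => h x + h' x := fun c hc ψ g =>
  ⟨fun l v => by simp only [(h1 c hc ψ g).1, (h2 c hc ψ g).1]; module, fun r u v e => by simp only [(h1 c hc ψ g).2 r u v e, (h2 c hc ψ g).2 r u v e]; module⟩

theorem Lh.map {W' : Type*} [AddCommGroup W'] [Module F W'] {h : G → W} (h1 : Lh k D a β h) (f : W →ₗ[F] W') : Lh k D a β fun x => f (h x) := fun c hc ψ g =>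
  ⟨fun l v => by simp only [(h1 c hc ψ g).1, map_add, map_smul], fun r u v e => by simp only [(h1 c hc ψ g).2 r u v e, map_add, map_smul]⟩

theorem Lh.mul {h : G → F} (h1 : Lh k D a β h) (r : F) : Lh k D a β fun x => h x * r := h1.map (LinearMap.toSpanSingleton F F r)

/-- If `h c = 0` then `v ↦ h (pt v)` is linear (`sqrt`). -/
theorem Lh.lin {h : G → W} (h1 : Lh k D a β h) (hc : c ∈ Cp D a) (h2 : Gc D β ψ c) (h0 : h c = 0) : ∃ f : V k F →ₗ[F] W, ∀ v, f v = h (pt ψ c v) := ⟨⟨⟨fun v => h (pt ψ c v), fun u v => (sqrt (B u v)).elim fun r e => by rw [(h1 c hc ψ h2).2 r u v e, h0, smul_zero, add_zero]⟩,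
    fun l v => by simp only [(h1 c hc ψ h2).1, h0, smul_zero, zero_add, RingHom.id_apply]⟩, fun _ => rfl⟩

namespace Dl

variable (s : Dl k F D) (ha : a ∈ D) (hβ : Bt k D a β)
include s ha hβ

omit hβ in
theorem pt_cp (hc : c ∈ Cp D a) (h : Ch D ψ c) (v : V k F) : pt ψ c v ∈ Cp D a := s.cp_adj ha hc (h.pt_mem v) (h.pt_cm v)

theorem gc2 (hx : x ∈ Cp D a) (hy : y ∈ Cp D a) : ∃ c ∈ Cp D a, ∃ ψ : J k F →* G, Gc D β ψ c ∧ ∃ u v, x = pt ψ c u ∧ y = pt ψ c v := by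
  obtain ⟨c, hc, p, q⟩ := s.two ha hx hy
  obtain ⟨ψ, h⟩ := hβ c hc
  obtain ⟨u, e⟩ := h.1.ex hx.1 p
  exact ⟨c, hc, ψ, h, u, (h.1.ex hy.1 q).imp fun _ f => ⟨e, f⟩⟩

theorem gc3 (hx : x ∈ Cp D a) (hy : y ∈ Cp D a) (hz : z ∈ Cp D a) :
    ∃ c ∈ Cp D a, ∃ ψ : J k F →* G, Gc D β ψ c ∧ ∃ u v w, x = pt ψ c u ∧ y = pt ψ c v ∧ z = pt ψ c w := by
  obtain ⟨c, hc, p, q, o⟩ := s.three ha hx hy hz
  obtain ⟨ψ, h⟩ := hβ c hc
  obtain ⟨u, e⟩ := h.1.ex hx.1 p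
  obtain ⟨v, e'⟩ := h.1.ex hy.1 q
  exact ⟨c, hc, ψ, h, u, v, (h.1.ex hz.1 o).imp fun _ f => ⟨e, e', f⟩⟩

theorem β_symm (hx : x ∈ Cp D a) (hy : y ∈ Cp D a) : β x y = β y x := by
  obtain ⟨c, -, ψ, h, u, v, rfl, rfl⟩ := s.gc2 ha hβ hx hy; rw [h.2, h.2, B_symm]

theorem β_zero (hx : x ∈ Cp D a) (hy : y ∈ Cp D a) : β x y = 0 ↔ Commute x y := by
  obtain ⟨c, -, ψ, h, u, v, rfl, rfl⟩ := s.gc2 ha hβ hx hy; rw [h.2, h.1.pt_comm]

theorem β_cj (hx : x ∈ Cp D a) (hy : y ∈ Cp D a) (hz : z ∈ Cp D a) : β z (x * y * x) = β z y + β y x * β z x := by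
  obtain ⟨c, -, ψ, h, u, v, w, rfl, rfl, rfl⟩ := s.gc3 ha hβ hx hy hz; rw [h.1.pt_cj, h.2, h.2, h.2, h.2, B_add, B_smul]

/-- `v = 0` is trivial.  Else `three_off` for `c`, `pt v`, `x` gives `c₁` and `p`; in a chart at `c₁`: `c = pt₁ γ`, `pt v = pt₁ η`, and `pt (l • v) = pt₁ (γ + m • (γ + η))`
(`ln0`, `ln`), so `β y (pt (l • v)) = (1 + m) β y c + m β y (pt v)` for `y ∼ c₁`.  For `y = p = pt π`: `l * B π v = m * B π v`, so `m = l`.  Take `y = x`. -/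
theorem β_smul (hc : c ∈ Cp D a) (h : Gc D β ψ c) (hx : x ∈ Cp D a) (l : F) (v : V k F) :
    β x (pt ψ c (l • v)) = (1 + l) * β x c + l * β x (pt ψ c v) := by
  by_cases v0 : v = 0
  · rw [v0, smul_zero, pt_zero]; grind only
  have n : c ≠ pt ψ c v := fun e => v0 (h.1.pt_inj (e.symm.trans pt_zero.symm))
  obtain ⟨c₁, h1, p1, p2, p3, p, hp, q1, q2, q3⟩ := s.three_off ha hc (s.pt_cp ha hc h.1 v) hx n (h.1.pt_cm v)
  obtain ⟨φ, h'⟩ := hβ c₁ h1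
  obtain ⟨γ, e1⟩ := h'.1.ex hc.1 p1
  obtain ⟨η, e2⟩ := h'.1.ex (h.1.pt_mem v) p2
  obtain ⟨m, e⟩ := (s.ln h'.1 (h'.1.pt_comm.1 (e1 ▸ e2 ▸ h.1.pt_cm v)) fun e => n (by rw [e2, ← e, ← e1])).1
    (e1 ▸ e2 ▸ (s.ln0 h.1 v0).2 ⟨l, rfl⟩ : pt ψ c (l • v) ∈ Ln D (pt φ c₁ γ) (pt φ c₁ γ * pt φ c₁ η))
  have k1 : ∀ y ∈ D, Commute c₁ y → β y (pt ψ c (l • v)) = (1 + m) * β y c + m * β y (pt ψ c v) := fun y hy o => by
    obtain ⟨ζ, rfl⟩ := h'.1.ex hy o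
    rw [e, e2, e1, h'.2, h'.2, h'.2]; bsp; ring
  have k2 := k1 p hp.1 q2.symm
  rw [(s.β_zero ha hβ hp hc).2 q1, mul_zero, zero_add] at k2
  obtain ⟨π, rfl⟩ := h.1.ex hp.1 q1.symm
  rw [h.2, h.2, B_smul] at k2
  rw [k1 x hx.1 p3, mul_right_cancel₀ (mt h.1.pt_comm.2 q3) k2]

/-- `pt (u + v) = pt (r⁻¹ • u) * pt v * pt (r⁻¹ • u)` (`pt_cj`), `β_cj`, `β_smul`. -/
theorem β_add1 (hc : c ∈ Cp D a) (h : Gc D β ψ c) (hx : x ∈ Cp D a) (hr : r ^ 2 = B u v) (h0 : r ≠ 0) :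
    β x (pt ψ c (u + v)) = β x (pt ψ c u) + β x (pt ψ c v) + (1 + r) * β x c := by
  have e : u + v = v + B v (r⁻¹ • u) • r⁻¹ • u := by rw [B_smul, B_symm, ← hr, smul_smul, show r⁻¹ * r ^ 2 * r⁻¹ = 1 by field_simp, one_smul, add_comm]
  rw [e, ← h.1.pt_cj, s.β_cj ha hβ (s.pt_cp ha hc h.1 _) (s.pt_cp ha hc h.1 _) hx, h.2, s.β_smul ha hβ hc h hx, B_smul, B_symm, ← hr]; field_simp; ring

/-- `q = 2`.  `u = 0` is trivial.  In a chart `ψ'` at `pt u`: `c = pt' γ`, `pt v = pt' δ`, `pt (u + v) = pt' ε`, `δ ≠ ε`.  For `y ⊥ γ`, `pt' y = pt η` and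
`B η u = 0` gives `B y δ = B η v = B η (u + v) = B y ε`.  So `δ + ε = l • γ` (`span2`), `l = 1`.  Evaluate at `x = pt' ξ`. -/
theorem β_add2 (h2 : ∀ l : F, l = 0 ∨ l = 1) (hc : c ∈ Cp D a) (h : Gc D β ψ c) (hx : x ∈ Cp D a) (h0 : B u v = 0) (hxu : Commute x (pt ψ c u)) :
    β x (pt ψ c (u + v)) = β x (pt ψ c u) + β x (pt ψ c v) + β x c := by
  by_cases u0 : u = 0
  · rw [u0, zero_add, pt_zero]; grind only
  have hu := s.pt_cp ha hc h.1 u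
  obtain ⟨φ, h'⟩ := hβ _ hu
  obtain ⟨γ, e1⟩ := h'.1.ex hc.1 (h.1.pt_cm u).symm
  obtain ⟨δ, e2⟩ := h'.1.ex (h.1.pt_mem v) (h.1.pt_comm.2 h0)
  obtain ⟨ε, e3⟩ := h'.1.ex (h.1.pt_mem (u + v)) (h.1.pt_comm.2 (by rw [B_add, B_self, h0, add_zero]))
  obtain ⟨l, m, e⟩ := span2 (a := γ) (b := γ) (x := δ + ε) fun y o _ => by
    obtain ⟨η, f⟩ := h.1.ex (h'.1.pt_mem y) (by have := (h'.1.pt_comm.2 o).symm; rwa [← e1] at this)
    have := h'.1.pt_cm y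
    rw [f, h.1.pt_comm, B_symm] at this
    rw [B_add, ← h'.2, ← h'.2, ← e2, ← e3, f, h.2, h.2, B_add, this, zero_add, CharTwo.add_self_eq_zero]
  rw [← add_smul] at e
  obtain f | f := h2 (l + m)
  · exact (u0 (add_eq_right.1 (h.1.pt_inj (by rw [e2, e3]; congr 1; rw [f] at e; vcu e)))).elim
  obtain ⟨ξ, rfl⟩ := h'.1.ex hx.1 hxu.symm
  rw [(s.β_zero ha hβ hx hu).2 hxu, e2, e3, show β _ c = _ from (congrArg _ e1).trans (h'.2 ξ γ), h'.2, h'.2, zero_add, ← B_add]; congr 1; rw [f] at e; vcu e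

/-- The cases `u = 0`, `v = 0`, `u = v` are trivial.  `q > 2`: `y` from `not3` for `u, v, u + v`; compute `β x (pt (u + v + y))` by `β_add1` as `(u + v) + y` and as
`u + (v + y)`; the square roots add.  (`B u (v + y) = B u y ≠ 0`.)  `q = 2`: if `x ∼ c` compute in the chart; if `x` commutes with `pt u`, `pt v` or `pt (u + v)` use
`β_add2` for `(u, v)`, `(v, u)`, `(u + v, u)`; otherwise all four values are `1`. -/
theorem β_add0 (hc : c ∈ Cp D a) (h : Gc D β ψ c) (hx : x ∈ Cp D a) (h0 : B u v = 0) :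
    β x (pt ψ c (u + v)) = β x (pt ψ c u) + β x (pt ψ c v) + β x c := by
  by_cases u0 : u = 0
  · rw [u0, zero_add, pt_zero]; grind only
  by_cases v0 : v = 0
  · rw [v0, add_zero, pt_zero]; grind only
  by_cases w0 : u + v = 0
  · rw [w0, pt_zero, show u = v by vcu w0]; grind only
  by_cases h2 : ∀ l : F, l = 0 ∨ l = 1
  · by_cases c1 : Commute x (pt ψ c u)
    · exact s.β_add2 ha hβ h2 hc h hx h0 c1
    by_cases c2 : Commute x (pt ψ c v)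
    · rw [add_comm u, s.β_add2 ha hβ h2 hc h hx (B_symm u v ▸ h0) c2, add_comm (β x _)]
    by_cases c3 : Commute x (pt ψ c (u + v))
    · have := s.β_add2 ha hβ h2 hc h hx (v := u) (by rw [add_B, B_self, B_symm, h0, add_zero]) c3
      rw [show u + v + u = v by vct] at this; grind only
    by_cases c4 : Commute x c
    · obtain ⟨ξ, rfl⟩ := h.1.ex hx.1 c4.symm
      rw [(s.β_zero ha hβ hx hc).2 c4, h.2, h.2, h.2, B_add, add_zero]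
    have k1 : ∀ y ∈ Cp D a, ¬ Commute x y → β x y = 1 := fun y hy n => (h2 _).resolve_left (mt (s.β_zero ha hβ hx hy).1 n)
    rw [k1 _ (s.pt_cp ha hc h.1 _) c1, k1 _ (s.pt_cp ha hc h.1 _) c2, k1 _ (s.pt_cp ha hc h.1 _) c3, k1 _ hc c4]; grind only
  obtain ⟨l, hl⟩ := not_forall.1 h2
  obtain ⟨y, p1, p2, p3⟩ := not3 (not_or.1 hl).1 (not_or.1 hl).2 u0 v0 w0
  obtain ⟨r, f1⟩ := sqrt (B u y)
  obtain ⟨r', f2⟩ := sqrt (B v y)
  have f3 : (r + r') ^ 2 = B (u + v) y := by rw [add_B, CharTwo.add_sq, f1, f2]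
  have z : ∀ {r t : F}, r ^ 2 = t → t ≠ 0 → r ≠ 0 := fun e n f => n (by rw [← e, f, zero_pow two_ne_zero])
  have g1 := s.β_add1 ha hβ hc h hx f3 (z f3 p3)
  rw [add_assoc, s.β_add1 ha hβ hc h hx (r := r) (by rw [B_add, h0, zero_add, f1]) (z f1 p1), s.β_add1 ha hβ hc h hx f2 (z f2 p2)] at g1
  grind only

theorem β_lh (hx : x ∈ Cp D a) : Lh k D a β (β x) := fun c hc ψ h => ⟨s.β_smul ha hβ hc h hx, fun r u v e => (eq_or_ne r 0).elim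
  (fun f => by rw [s.β_add0 ha hβ hc h hx (by rw [← e, f, zero_pow two_ne_zero]), f, add_zero, one_smul]) (s.β_add1 ha hβ hc h hx e)⟩

/-- `c ∼ c₀, x₀, y` (`three`); `h c = 0`, so `f v = h (pt v)` is linear; `c₀ = pt γ`, `x₀ = pt ξ`, `B ξ γ ≠ 0`, `f` vanishes on `γ^⊥` and at `ξ`. -/
theorem fl {h : G → W} (h1 : Lh k D a β h) {c₀ x₀ : G} (hc : c₀ ∈ Cp D a) (hx : x₀ ∈ Cp D a) (hn : ¬ Commute x₀ c₀)
    (h2 : ∀ y ∈ D, Commute y c₀ → h y = 0) (h3 : h x₀ = 0) (hy : y ∈ Cp D a) : h y = 0 := by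
  obtain ⟨c, hc', ψ, g, γ, ξ, η, rfl, rfl, rfl⟩ := s.gc3 ha hβ hc hx hy
  obtain ⟨f, e⟩ := h1.lin hc' g (h2 c hc'.1 (g.1.pt_cm γ))
  have := h2 _ (g.1.pt_mem (η + (B η γ / B ξ γ) • ξ))
    (g.1.pt_comm.2 (by rw [add_B, smul_B, div_mul_cancel₀ _ (mt g.1.pt_comm.2 hn), CharTwo.add_self_eq_zero]))
  rwa [← e, map_add, map_smul, e, e, h3, smul_zero, add_zero] at this

/-- `nadj`, `c ∼ x, y`, rescale `y = pt v` in the chart at `c`. -/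
theorem β_one (hx : x ∈ Cp D a) : ∃ y ∈ Cp D a, β x y = 1 := by
  obtain ⟨y, hy, n⟩ := s.nadj ha hx
  obtain ⟨c, hc, ψ, h, u, v, rfl, rfl⟩ := s.gc2 ha hβ hx hy
  exact ⟨_, s.pt_cp ha hc h.1 ((B u v)⁻¹ • v), by rw [h.2, B_smul, inv_mul_cancel₀ (mt h.1.pt_comm.2 n)]⟩

end Dl

end Cfsg.Lib.SPD
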