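import Cfsg.Agent.Lib.SPD.Cp

/-!
# S3129, case `δ`: the symplectic forms of the charts glue to a form `β` on a component `X = Cp D a`.
-/

set_option autoImplicit false
set_option linter.unusedSectionVars false

namespace Cfsg.Lib.SPD

open Subgroup
open scoped Matrix

variable {k : ℕ} {F G : Type*} [Field F] [Finite F] [CharP F 2] [Group G] [Finite G] {D : Set G} {ψ ψ' ψ'' : J k F →* G}
  {a b c c' c'' d e g p x y z : G} {u v w : V k F} {l m : F} {β β' : G → G → F}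

theorem Ag.symm (h : Ag ψ c ψ' c') : Ag ψ' c' ψ c := fun u v u' v' e f => (h u' v' u v e.symm f.symm).symm

theorem Ch.ag (h : Ch D ψ c) : Ag ψ c ψ c := fun _ _ _ _ e f => by rw [h.pt_inj e, h.pt_inj f]

/-- `c' = pt ξ`.  For `u ⊥ ξ` choose `φ u` with `pt u = pt' (φ u)`; `gam` for `γ u v = B (φ u) (φ v)`: by `pt_cj` in both charts and `pt_inj`,
`φ (v + B v u • u) = φ v + B (φ v) (φ u) • φ u`. -/
theorem Ch.cmp (h : Ch D ψ c) (h' : Ch D ψ' c') (hk : 3 ≤ k) (hc : Commute c c') :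
    ∃ σ : F ≃+* F, ∀ u v u' v', pt ψ c u = pt ψ' c' u' → pt ψ c v = pt ψ' c' v' → B u' v' = σ (B u v) := by
  obtain ⟨ξ, e⟩ := h.ex h'.mem hc
  have : ∀ u, ∃ u', B u ξ = 0 → pt ψ c u = pt ψ' c' u' := fun u => (em (B u ξ = 0)).elim
    (fun o => (h'.ex (h.pt_mem u) (e ▸ (h.pt_comm.2 o).symm)).imp fun _ f _ => f) fun n => ⟨0, fun o => (n o).elim⟩
  choose φ hφ using this
  have k1 : ∀ u v, B u ξ = 0 → B v ξ = 0 → φ (v + B v u • u) = φ v + B (φ v) (φ u) • φ u := fun u v p q => h'.pt_inj (by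
    rw [← hφ _ (by rw [add_B, smul_B, p, q, mul_zero, add_zero]), ← h.pt_cj, ← h'.pt_cj, hφ u p, hφ v q])
  obtain ⟨σ, f⟩ := gam (x := ξ) hk (γ := fun u v => B (φ u) (φ v))
    (fun u v y p q r => by rw [k1 y u r p, k1 y v r q]; bsp; rw [B_symm (φ y)]; grind only)
    (fun u v p q => by rw [← h'.pt_comm, ← hφ u p, ← hφ v q, h.pt_comm]) fun u v w p q _ => by rw [k1 u v p q, add_B, smul_B]
  refine ⟨σ, fun u v u' v' p q => ?_⟩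
  have o : ∀ {u u'}, pt ψ c u = pt ψ' c' u' → B u ξ = 0 := fun p => h.pt_comm.1 (e ▸ p ▸ (h'.pt_cm _).symm)
  rw [← f u v (o p) (o q), h'.pt_inj (p.symm.trans (hφ u (o p))), h'.pt_inj (q.symm.trans (hφ v (o q)))]

/-- Three commuting points have common neighbours with any value of the form: `c' = pt ξ`, `c'' = pt ζ`, `u, v` from `hyp3 ξ ζ 0`, take `u` and `r • v`. -/
theorem Ch.val (h : Ch D ψ c) (hk : 3 ≤ k) (h1 : c' ∈ D) (h2 : c'' ∈ D) (c1 : Commute c c') (c2 : Commute c c'') (r : F) :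
    ∃ u v, B u v = r ∧ (Commute c' (pt ψ c u) ∧ Commute c'' (pt ψ c u)) ∧ Commute c' (pt ψ c v) ∧ Commute c'' (pt ψ c v) := by
  obtain ⟨ξ, rfl⟩ := h.ex h1 c1
  obtain ⟨ζ, rfl⟩ := h.ex h2 c2
  obtain ⟨u, v, e, ⟨p, q, -⟩, p', q', -⟩ := hyp3 (x := ξ) (y := ζ) hk (.inr rfl)
  exact ⟨u, r • v, by rw [B_smul, e, mul_one], ⟨(h.pt_comm.2 p).symm, (h.pt_comm.2 q).symm⟩,
    (h.pt_comm.2 (by rw [smul_B, p', mul_zero])).symm, (h.pt_comm.2 (by rw [smul_B, q', mul_zero])).symm⟩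

/-- `Ch.cmp` gives `σ` for `c`, `c''`; `σ = 1` by `Ch.val`. -/
theorem Ch.tri (h : Ch D ψ c) (h' : Ch D ψ' c') (h'' : Ch D ψ'' c'') (hk : 3 ≤ k) (c1 : Commute c c') (c2 : Commute c c'')
    (a1 : Ag ψ c ψ' c') (a2 : Ag ψ' c' ψ'' c'') : Ag ψ c ψ'' c'' := by
  obtain ⟨σ, f⟩ := h.cmp h'' hk c2
  refine fun u v u' v' p q => (f u v u' v' p q).trans ?_ |>.symm
  obtain ⟨u, v, e, ⟨p, q⟩, p', q'⟩ := h.val hk h'.mem h''.mem c1 c2 (B u v)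
  obtain ⟨u₁, e₁⟩ := h'.ex (h.pt_mem u) p
  obtain ⟨v₁, f₁⟩ := h'.ex (h.pt_mem v) p'
  obtain ⟨u₂, e₂⟩ := h''.ex (h.pt_mem u) q
  obtain ⟨v₂, f₂⟩ := h''.ex (h.pt_mem v) q'
  rw [← e, ← f _ _ _ _ e₂ f₂, a1 _ _ _ _ e₁ f₁, a2 _ _ _ _ (e₁.symm.trans e₂) (f₁.symm.trans f₂)]

/-- `ψ` is reached from the chart `ψ₀` at `a` through a common neighbour. -/
def Gd (D : Set G) (ψ₀ : J k F →* G) (a : G) (ψ : J k F →* G) (c : G) : Prop :=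
  Ch D ψ c ∧ ∃ b, ∃ ψ₁ : J k F →* G, Ch D ψ₁ b ∧ Commute a b ∧ Commute b c ∧ Ag ψ₀ a ψ₁ b ∧ Ag ψ₁ b ψ c

namespace Dl

variable (s : Dl k F D)
include s

/-- Twist any chart at `c'` by the `σ` of `Ch.cmp` (`fld`, `pt_fψ`, `B_fld`). -/
theorem ex_ag (h : Ch D ψ c) (hc' : c' ∈ D) (hc : Commute c c') : ∃ ψ' : J k F →* G, Ch D ψ' c' ∧ Ag ψ c ψ' c' := by
  obtain ⟨φ, h'⟩ := s.ch c' hc'
  obtain ⟨σ, f⟩ := h.cmp h' s.hk hc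
  exact ⟨_, h'.fld σ, fun u v u' v' p q => σ.injective (by rw [← f u v _ _ (p.trans (pt_fψ σ u')) (q.trans (pt_fψ σ v')), B_fld])⟩

theorem ex_gd {ψ₀ : J k F →* G} (h : Ch D ψ₀ a) (hc : c ∈ Cp D a) : ∃ ψ : J k F →* G, Gd D ψ₀ a ψ c := by
  obtain ⟨hc, b, hb, p, q⟩ := hc
  obtain ⟨ψ₁, h1, a1⟩ := s.ex_ag h hb p
  obtain ⟨ψ, h2, a2⟩ := s.ex_ag h1 hc q
  exact ⟨ψ, h2, b, ψ₁, h1, p, q, a1, a2⟩

/-- `b`, `b'` the intermediate points.  `x ∼ a, b, c, c'` (`path`), `y ∼ x, c', b', a` (`path`), with charts that agree with `ψ₀` (`ex_ag`).  `tri` gives in turn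
`b x` (through `a`), `c x` (through `b`), `x y`, `b' y` (through `a`), `c' y` (through `b'`), `x c'` (through `y`), `c c'` (through `x`). -/
theorem gd_ag {ψ₀ : J k F →* G} (h : Ch D ψ₀ a) (h1 : Gd D ψ₀ a ψ c) (h2 : Gd D ψ₀ a ψ' c') (hc : Commute c c') : Ag ψ c ψ' c' := by
  obtain ⟨h1, b, φ, hb, ab, bc, a1, a2⟩ := h1
  obtain ⟨h2, b', φ', hb', ab', bc', a1', a2'⟩ := h2
  obtain ⟨x, hx, xa, xb, xc, xc', -⟩ := s.path h.mem hb.mem h1.mem h2.mem hb.mem ab bc hc (.refl b) bc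
  obtain ⟨y, hy, yx, yc, yb, ya, -⟩ := s.path hx h2.mem hb'.mem h.mem hb'.mem xc' bc'.symm ab'.symm bc' (.refl b')
  obtain ⟨χ, hχ, ax⟩ := s.ex_ag h hx xa.symm
  obtain ⟨ω, hω, ay⟩ := s.ex_ag h hy ya.symm
  have K := s.hk
  exact h1.tri hχ h2 K xc.symm hc (h1.tri hb hχ K bc.symm xc.symm a2.symm (hb.tri h hχ K ab.symm xb.symm a1.symm ax))
    (hχ.tri hω h2 K yx.symm xc' (hχ.tri h hω K xa yx.symm ax.symm ay)
      (h2.tri hb' hω K bc'.symm yc.symm a2'.symm (hb'.tri h hω K ab'.symm yb.symm a1'.symm ay)).symm)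

/-- `p ∼ c, x, c', y` from `path c x c' y`; `gd_ag` twice with a good chart at `p`. -/
theorem gd_eq {ψ₀ : J k F →* G} (h : Ch D ψ₀ a) (h1 : Gd D ψ₀ a ψ c) (h2 : Gd D ψ₀ a ψ' c') : Ag ψ c ψ' c' := fun u v u' v' e f => by
  have c1 := h1.1
  have c2 := h2.1
  obtain ⟨p, hp, pc, px, pc', py, -⟩ := s.path c1.mem (c1.pt_mem u) c2.mem (c1.pt_mem v) c2.mem (c1.pt_cm u) (e ▸ (c2.pt_cm u').symm) (f ▸ c2.pt_cm v')
    (e ▸ c2.pt_cm u') (.refl c')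
  obtain ⟨χ, hχ⟩ := s.ex_gd h (s.cp_adj h.mem (let ⟨_, b, _, hb, p, q, _⟩ := h1; ⟨c1.mem, b, hb.mem, p, q⟩) hp pc.symm)
  obtain ⟨u₁, e₁⟩ := hχ.1.ex (c1.pt_mem u) px
  obtain ⟨v₁, f₁⟩ := hχ.1.ex (c1.pt_mem v) py
  rw [s.gd_ag h h1 hχ pc.symm _ _ _ _ e₁ f₁, s.gd_ag h h2 hχ pc'.symm _ _ _ _ (e.symm.trans e₁) (f.symm.trans f₁)]

/-- `β x y = B u v` for some good chart with `x = pt u`, `y = pt v` (choice; `0` if there is none); `gd_eq`. -/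
theorem exists_bt (ha : a ∈ D) : ∃ β : G → G → F, Bt k D a β := by
  obtain ⟨ψ₀, h⟩ := s.ch a ha
  have : ∀ x y : G, ∃ r : F, ∀ c (ψ : J k F →* G) u v, Gd D ψ₀ a ψ c → x = pt ψ c u → y = pt ψ c v → r = B u v := fun x y => by
    by_cases n : ∃ c, ∃ ψ : J k F →* G, ∃ u v, Gd D ψ₀ a ψ c ∧ x = pt ψ c u ∧ y = pt ψ c v
    · obtain ⟨c, ψ, u, v, g, rfl, rfl⟩ := n
      exact ⟨_, fun _ _ _ _ g' => s.gd_eq h g g' u v _ _⟩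
    · exact ⟨0, fun c ψ u v g p q => (n ⟨c, ψ, u, v, g, p, q⟩).elim⟩
  choose β hβ using this
  exact ⟨β, fun c hc => (s.ex_gd h hc).imp fun ψ g => ⟨g.1, fun u v => hβ _ _ c ψ u v g rfl rfl⟩⟩

/-- `Ch.cmp` with `c' = c` gives `σ_c` with `β' = σ_c β` on the neighbours of `c`; `σ_c = σ_{c'}` for `c ∼ c'` (`Ch.val`); so `σ_c = σ_a`; `two`. -/
theorem bt_uniq (ha : a ∈ D) (h : Bt k D a β) (h' : Bt k D a β') : ∃ σ : F ≃+* F, ∀ x ∈ Cp D a, ∀ y ∈ Cp D a, β' x y = σ (β x y) := by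
  have : ∀ c, ∃ σ : F ≃+* F, c ∈ Cp D a → ∀ x ∈ D, ∀ y ∈ D, Commute c x → Commute c y → β' x y = σ (β x y) := fun c => by
    by_cases hc : c ∈ Cp D a
    · obtain ⟨ψ, h1, e⟩ := h c hc
      obtain ⟨ψ', h2, e'⟩ := h' c hc
      obtain ⟨σ, f⟩ := h1.cmp h2 s.hk (.refl c)
      refine ⟨σ, fun _ x hx y hy p q => ?_⟩
      obtain ⟨u, rfl⟩ := h1.ex hx p
      obtain ⟨v, rfl⟩ := h1.ex hy q
      obtain ⟨u', p'⟩ := h2.ex hx p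
      obtain ⟨v', q'⟩ := h2.ex hy q
      rw [e, ← f u v u' v' p' q', p', q', e']
    · exact ⟨.refl F, fun m => (hc m).elim⟩
  choose σ hσ using this
  have k1 : ∀ c ∈ Cp D a, ∀ c' ∈ Cp D a, Commute c c' → ∀ r, σ c r = σ c' r := fun c hc c' hc' o r => by
    obtain ⟨ψ, h1, e⟩ := h c hc
    obtain ⟨u, v, rfl, ⟨p, -⟩, q, -⟩ := h1.val s.hk hc'.1 hc'.1 o o r
    rw [← e, ← hσ c hc _ (h1.pt_mem u) _ (h1.pt_mem v) (h1.pt_cm u) (h1.pt_cm v), hσ c' hc' _ (h1.pt_mem u) _ (h1.pt_mem v) p q]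
  refine ⟨σ a, fun x hx y hy => ?_⟩
  obtain ⟨c, hc, p, q⟩ := s.two ha hx hy
  obtain ⟨-, b, hb, ab, bc⟩ := id hc
  rw [hσ c hc x hx.1 y hy.1 p q, k1 a (cp_self ha) b (cp_cm hb ab) ab, k1 b (cp_cm hb ab) c hc bc]

/-- `β' x y = β (g x g⁻¹) (g y g⁻¹)` satisfies `Bt` (`Ch.conj` with `g⁻¹`); `bt_uniq`. -/
theorem bt_sigma (ha : a ∈ D) (h : Bt k D a β) (hg : g ∈ NX D a) :
    ∃ σ : F ≃+* F, ∀ x ∈ Cp D a, ∀ y ∈ Cp D a, β (g * x * g⁻¹) (g * y * g⁻¹) = σ (β x y) := s.bt_uniq (β' := fun x y => β (g * x * g⁻¹) (g * y * g⁻¹)) ha h fun c hc => by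
  obtain ⟨ψ, h1, e⟩ := h _ (nx_cj hg hc)
  have f : g⁻¹ * (g * c * g⁻¹) * g⁻¹⁻¹ = c := by group
  refine ⟨cψ g⁻¹ ψ, f ▸ h1.conj s.cj g⁻¹, fun u v => ?_⟩
  rw [← e, ← f, pt_cψ, pt_cψ, f]; group

end Dl

end Cfsg.Lib.SPD
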