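import Cfsg.Agent.Lib.SPD.Rho
import Cfsg.Agent.Lib.SPD.Ar

/-!
# S3129, case `δ`: normal subgroups of `C(z) ⊓ NX`.
-/

set_option autoImplicit false
set_option linter.unusedSectionVars false

namespace Cfsg.Lib.SPD

open Subgroup QuadraticMap Cfsg.Lib.BG
open scoped Matrix

variable {k : ℕ} {F G : Type*} [Field F] [Finite F] [CharP F 2] [Group G] [Finite G] {D : Set G} {ψ : J k F →* G} {a e g z : G}
  {u u' v : V k F} {K : Subgroup G}

theorem EE_mv (h : B u v = 0) (x : V k F) : (T u * T (u + v)).1 *ᵥ x = x + B x v • u + (B x u + B x v) • v := by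
  rw [TT_mv (by rw [B_add, B_self, h, add_zero]), B_add]
  have := v2 (F := F) (B x u • u)
  linear_combination (norm := module) this

theorem EE2 (h : B u v = 0) (h' : B u' v = 0) (x : V k F) :
    (T u * T (u + v) * (T u' * T (u' + v))).1 *ᵥ x = x + B x v • (u + u') + (B x u + B x u' + B x v * B u u') • v := by
  rw [mul_mv, EE_mv h', EE_mv h]
  simp only [add_B, smul_B, h', B_self, B_symm v u, h, mul_zero, add_zero, B_symm u' u]
  have := v2 (F := F) (B x v • v)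
  linear_combination (norm := module) this

/-- `EE_mv`: both products map `x` to `x + B x v • (u + u') + (B x u + B x u' + B x v * B u u') • v`. -/
theorem EE_comm (h : B u v = 0) (h' : B u' v = 0) : Commute (T u * T (u + v)) (T u' * T (u' + v)) :=
  Symp.sp_ext fun x => by rw [EE2 h h', EE2 h' h, add_comm u, add_comm (B x u), B_symm u]

/-- For `x ⊥ v`: `B x (u + u') = 0`; `span2`. -/
theorem EE_eq (hv : v ≠ 0) (h : B u v = 0) (h' : B u' v = 0) {l : F} (e : T u * T (u + v) * (T u' * T (u' + v)) = T (l • v)) : ∃ r : F, u' = u + r • v := by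
  obtain ⟨r, m, e'⟩ := span2 (a := v) (b := 0) (x := u + u') fun y h1 _ => by
    have := EE2 h h' y
    rw [e, T_mv, B_smul, h1, mul_zero, zero_smul, zero_smul, zero_mul, add_zero, add_zero, left_eq_add, ← B_add] at this
    exact (smul_eq_zero.1 this).resolve_right hv
  exact ⟨r, by rw [smul_zero, add_zero] at e'; rw [← e', ← add_assoc, v2 (F := F), zero_add]⟩

namespace Dl

variable (s : Dl k F D)
include s

/-- `exists_md`, take the chart `ψ'` of `Md.ch` at `a`, and `f` of `Md.sl`.  First `f n = n` for `n = ι a + ι (a z)`: with `z = ψ' (T η)`, `g a g⁻¹ = pt' (l • η)` (`ln_cj`, `ln0`),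
`g (a z) g⁻¹ = pt' ((l + 1) • η)` (`ln_mul`), and `ι (pt' (l • η)) = ι a + l • n`.  The point `e₁ = pt' (ε + η)` has `ι e₁ = ι e + n`, so `ι (g e₁ g⁻¹) = ι (g e g⁻¹) + n`
and `g e₁ g⁻¹ = pt' (ε' + η)` (`inj`), where `g e g⁻¹ = pt' ε'` (`Ar_cm`: `e` commutes with the line, which `g` permutes).
(b) `ι (pt' (ε + ε')) = ι (pt' ε) + ι a + ι (pt' ε')` for `ε ⊥ ε'`. -/
theorem sh (hz : z ≠ 1) (ha : a ∈ La D z) : ∃ ψ : J k F →* G, Ch D ψ a ∧ ∃ v, v ≠ 0 ∧ z = ψ (T v) ∧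
    (∀ g ∈ NX D a, Commute g z → ∀ u, B u v = 0 → ∃ u', B u' v = 0 ∧ g * pt ψ a u * g⁻¹ = pt ψ a u' ∧ g * pt ψ a (u + v) * g⁻¹ = pt ψ a (u' + v)) ∧
    ∀ g ∈ NX D a, ∀ u u', B u u' = 0 → Commute g (pt ψ a (u + u')) → Commute g (pt ψ a u) → (Commute g a ↔ Commute g (pt ψ a u')) := by
  obtain ⟨Q, ι, M⟩ := s.exists_md ha.1
  have aX := cp_self ha.1
  obtain ⟨ψ, h, -, hl⟩ := M.ch a aX
  obtain ⟨v, e⟩ := h.ex ha.2.2 ((Commute.refl a).mul_right ha.2.1)
  have ez : z = a * pt ψ a v := by rw [← e, ← mul_assoc, h.c2, one_mul]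
  have hv : v ≠ 0 := fun e0 => hz (by rw [ez, e0, pt_zero, h.c2])
  have X (u) : pt ψ a u ∈ Cp D a := cp_cm (h.pt_mem u) (h.pt_cm u)
  have ad {u u'} (h0 : B u u' = 0) : ι (pt ψ a (u + u')) = ι (pt ψ a u) + (ι a + ι (pt ψ a u')) := by simpa using hl 1 u u' h0
  refine ⟨ψ, h, v, hv, ez.trans (h.c_mul v), fun g hg c u hu => ?_, fun g hg u u' h0 c1 c2 => ?_⟩ <;> obtain ⟨σ, f, -, hf, -⟩ := M.sl g hg
  · obtain ⟨l, el⟩ := (s.ln0 h hv).1 (ez ▸ s.ln_cj hz ha hg c (ln_self ha))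
    have e2 : g * pt ψ a v * g⁻¹ = pt ψ a ((l + 1) • v) := by
      have := h.ln_mul (zero_B v) l
      simp only [zero_add, pt_zero] at this
      rw [← this, ← el, ← ez, ← e, ← conj_mul, c.mul_inv_cancel]
    have fn : f (ι a + ι (pt ψ a v)) = ι a + ι (pt ψ a v) := by
      have h1 := hl l 0 v (zero_B v)
      have h2 := hl (l + 1) 0 v (zero_B v)
      rw [zero_add, pt_zero] at h1 h2
      rw [map_add, hf a aX, hf _ (X v), el, e2, h1, h2]
      have := v2 (F := F) (ι a + l • (ι a + ι (pt ψ a v)))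
      linear_combination (norm := module) this
    have cz : Commute (pt ψ a u) z := ez ▸ (h.pt_cm u).symm.mul_right (h.pt_comm.2 hu)
    have c3 : Commute (g * pt ψ a u * g⁻¹) a := by
      simpa [mul_assoc] using (s.Ar_cm hz ha (h.pt_mem u) (h.pt_cm u).symm cz
        (ln_Ar (s.ln_cj hz ha (inv_mem hg) c.inv_left (ln_self ha)))).map (MulAut.conj g)
    obtain ⟨u', e'⟩ := h.ex (s.cj _ (h.pt_mem u) g) c3.symm
    have h' : B u' v = 0 := h.pt_comm.1 (by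
      rw [← e', ← e]
      exact c3.mul_right (by simpa [c.mul_inv_cancel] using cz.map (MulAut.conj g)))
    refine ⟨u', h', e', M.inj _ (nx_cj hg (X _)) _ (X _) ?_⟩
    rw [← hf _ (X _), ad hu, ad h', map_add, fn, hf _ (X u), e']
  · have k {x} (hx : x ∈ Cp D a) : Commute g x ↔ f (ι x) = ι x :=
      ⟨fun c => by rw [hf x hx, c.mul_inv_cancel], fun e => mul_inv_eq_iff_eq_mul.1 (M.inj _ (nx_cj hg hx) _ hx (hf x hx ▸ e))⟩
    rw [k (X _)] at c1 c2
    rw [ad h0, map_add, map_add, c2, add_right_inj] at c1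
    rw [k aX, k (X _)]
    exact ⟨fun e => by rwa [e, add_right_inj] at c1, fun e => by rwa [e, add_left_inj] at c1⟩

/-- `sh`.  Let `g ∈ K`, `u ⊥ v`, `y = pt u * pt (u + v)`, `y' = g y g⁻¹ = pt u' * pt (u' + v)`.  `y' y = g (y g⁻¹ y⁻¹) ∈ K` is an involution or `1` (`EE_comm`), lies in `ψ J`, so
`u' = u + r • v` (`Ar_ψ`, `EE_eq`).  `pt u' * pt u = g (pt u g⁻¹ pt u) ∈ K` is an involution or `1`, so `T u' * T u = T (l • v) = T 0 * T (l • v)`.  If `u ≠ u'`, `TT_eq` gives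
`l • v = u' + u`, `0 = u' + m • (u' + u)`, so `u ∈ F v`.  So `g` fixes `pt u` if `u ∉ F v`.  `ti3` and (b) show that `g`
fixes `a`; for `u' = l • v` use (b) with `u = e` of `ti3`. -/
theorem k0 (hz : z ≠ 1) (ha : a ∈ La D z) (h1 : K ≤ NX D a ⊓ 𝐂[z]) (h2 : NX D a ⊓ 𝐂[z] ≤ 𝐍(K)) (h3 : ∀ x ∈ K, x * x = 1 → x ∈ Ar D a z)
    (hg : g ∈ K) (he : e ∈ D) (c1 : Commute e a) (c2 : Commute e z) : Commute g e := by
  obtain ⟨ψ, h, v, hv, rfl, sa, sb⟩ := s.sh hz ha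
  have N (u) (hu : B u v = 0) : pt ψ a u ∈ 𝐍(K) := h2 ⟨s.mem_NX ha.1 (cp_cm (h.pt_mem u) (h.pt_cm u)),
    mem_cent1.2 (h.c_mul v ▸ (h.pt_cm u).symm.mul_right (h.pt_comm.2 hu))⟩
  have k {y : G} (hy : y ∈ 𝐍(K)) (y2 : y * y = 1) : g * y * g⁻¹ * y ∈ K := by
    simpa [mul_assoc, inv_eq_of_mul_eq_one_right y2] using mul_mem hg (conj_mem_of_norm hy (inv_mem hg))
  have E2 {u} (hu : B u v = 0) : T u * T (u + v) * (T u * T (u + v)) = 1 := by
    rw [(T_comm.2 (by rw [add_B, B_self, B_symm, hu, add_zero])).mul_mul_mul_comm, T_sq, T_sq, one_mul]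
  have key (u) (hu : B u v = 0) (hn : ∀ l : F, u ≠ l • v) : Commute g (pt ψ a u) := by
    obtain ⟨u', hu', e1, e2⟩ := sa g (h1 hg).1 (mem_cent1.1 (h1 hg).2) u hu
    have m := k (mul_mem (N u hu) (N (u + v) (by rw [add_B, hu, B_self, add_zero]))) (by rw [h.pt_mul, ← map_mul, E2 hu, map_one])
    rw [← conj_mul, e1, e2, h.pt_mul, h.pt_mul, ← map_mul] at m
    obtain ⟨l, el⟩ := s.Ar_ψ h hv (h3 _ m (by
      rw [← map_mul, (EE_comm hu hu').mul_mul_mul_comm, E2 hu, E2 hu', one_mul, map_one]))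
    obtain ⟨r, er⟩ := EE_eq hv hu' hu el
    have b0 : B u' u = 0 := by rw [er, B_add, B_self, B_smul, hu', mul_zero, add_zero]
    have m := k (N u hu) (h.pt_sq u)
    rw [e1, h.pt_mul] at m
    obtain ⟨l, el⟩ := s.Ar_ψ h hv (h3 _ m (by
      rw [← map_mul, (T_comm.2 (B_symm u u' ▸ b0)).mul_mul_mul_comm, T_sq, T_sq, one_mul, map_one]))
    by_cases ne : u' = u
    · exact mul_inv_eq_iff_eq_mul.1 (ne ▸ e1)
    obtain ⟨t1, m, t2⟩ := TT_eq b0 (zero_B (l • v)) ne (by rw [el, T_zero, one_mul])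
    rw [← t1, zero_add] at t2
    refine (hn (m * l + r) ?_).elim
    have := v2 (F := F) (m • l • v)
    rw [er]
    linear_combination (norm := module) - this - t2
  obtain ⟨p, p', b1, b2, b3, ne⟩ := ti3 s.hk v
  have ga : Commute g a := (sb g (h1 hg).1 p p' b3 (key _ (by rw [add_B, b1, b2, add_zero]) fun l => (ne l).2.2) (key _ b1 fun l => (ne l).1)).2
    (key _ b2 fun l => (ne l).2.1)
  obtain ⟨u, rfl⟩ := h.ex he c1.symm
  by_cases hn : ∀ l : F, u ≠ l • v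
  · refine key u (h.pt_comm.1 ?_) hn
    simpa [← h.c_mul, ← mul_assoc, h.c2] using c1.mul_right c2
  obtain ⟨l, rfl⟩ : ∃ l : F, u = l • v := by simpa using hn
  refine (sb g (h1 hg).1 p _ (by rw [B_smul, b1, mul_zero]) (key _ (by rw [add_B, b1, smul_B, B_self, mul_zero, add_zero]) fun m e => ?_)
    (key _ b1 fun l => (ne l).1)).1 ga
  exact (ne (m - l)).1 (by rw [sub_smul, ← e, add_sub_cancel_right])

/-- `la_ch`.  `g pt u g⁻¹ = pt (φ u)`; `Ch.cmp` for `ψ` and `cψ g ψ` (or `Md.sl`) gives `B (φ u) (φ u') = σ (B u u')`, `σ = 1` by `hyp3 v 0 0`.  `isom`, `fix_perp`: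
`g' = ψ (T (l • v)) * g` centralizes all `pt u`; `k0x`.  `g` commutes with `a` and `ψ (T (l • v))`, so `g'` and `g' a` are `2`-elements; `cX_two`. -/
theorem fixA (hz : z ≠ 1) (ha : a ∈ La D z) {n : ℕ} (h2 : g ^ 2 ^ n = 1) (hg : ∀ e ∈ D, Commute e a → Commute e z → Commute g e) : g ∈ Ar D a z := by
  obtain ⟨ψ, h, v, hv, -, -, hl, hc⟩ := s.la_ch hz ha
  have ga := hg a ha.1 (.refl a) ha.2.1
  have fx (u) (hu : B u v = 0) : g * pt ψ a u * g⁻¹ = pt ψ a u := (hg _ (h.pt_mem u) (h.pt_cm u).symm ((hc u).2 hu)).mul_inv_cancel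
  choose φ hφ using fun u => h.ex (s.cj _ (h.pt_mem u) g) (by simpa [ga.mul_inv_cancel] using (h.pt_cm u).map (MulAut.conj g))
  obtain ⟨σ, hσ⟩ := (h.conj s.cj g).cmp h s.hk (by rw [ga.mul_inv_cancel])
  have hσ' (u u') : B (φ u) (φ u') = σ (B u u') := hσ u u' _ _ (by rw [pt_cψ, hφ]) (by rw [pt_cψ, hφ])
  have f0 (u) (hu : B u v = 0) : φ u = u := h.pt_inj ((hφ u).symm.trans (fx u hu))
  obtain ⟨p, p', b, ⟨b1, -⟩, b2, -⟩ := hyp3 (x := v) (y := 0) (z := 0) s.hk (.inr rfl)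
  have s1 (r : F) : σ r = r := by
    have := hσ' p (r • p')
    rw [f0 p b1, f0 _ (by rw [smul_B, b2, mul_zero]), B_smul, b, mul_one] at this
    exact this.symm
  obtain ⟨j, hj⟩ := isom (φ := φ) fun u u' => by rw [hσ', s1]
  obtain ⟨l, rfl⟩ := fix_perp (g := j) hv fun u hu => by rw [hj, f0 u hu]
  have m := ln_Ar ((hl _).2 ⟨l, rfl⟩)
  have aA := ln_Ar (ln_self ha)
  have m' : ψ (T (l • v)) ∈ Ar D a z := h.c_mul _ ▸ mul_mem aA m
  have c : Commute (ψ (T (l • v))) g := h.c_mul (l • v) ▸ ga.symm.mul_left (mul_inv_eq_iff_eq_mul.1 (fx _ (by rw [smul_B, B_self, mul_zero]))).symm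
  have t {r} (hr : r ∈ Ar D a z) (c : Commute r g) (hC : r * g ∈ CX D a) : g ∈ Ar D a z := by
    have := s.cX_two ha.1 hC (n := n + 1) (by rw [c.mul_pow, pow_succ', pow_mul, pow_two, s.Ar_sq hz ha hr, one_pow, mul_comm 2, pow_mul, h2, one_pow, one_mul])
    rw [eq_inv_of_mul_eq_one_right this]
    exact inv_mem hr
  rcases s.k0x (g := ψ (T (l • v)) * g) ha.1 (fun y hy c => by
    obtain ⟨u, rfl⟩ := h.ex hy c
    refine mul_inv_eq_iff_eq_mul.1 ?_
    rw [mul_inv_rev, mul_assoc _ g, mul_assoc (ψ _), ← mul_assoc (g * _), hφ, ← mul_assoc, h.ψ_cj, ← hj, ← mul_mv, T_sq]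
    simp) with e | e
  · exact t m' c e
  · exact t (mul_mem m' aA) (c.mul_left ga.symm) (by rwa [mul_assoc, ← ga.eq, ← mul_assoc])

end Dl

end Cfsg.Lib.SPD
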