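import Cfsg.Agent.Lib.SPD.Def

/-!
# S3129, case `δ`: linear algebra in characteristic two.
-/

set_option autoImplicit false
set_option linter.unusedSectionVars false

namespace Cfsg.Lib.SPD

open Subgroup
open scoped Matrix

variable {k : ℕ} {F : Type*} [Field F] [Finite F] [CharP F 2] {a b c d u v w x y z : V k F} {l m : F}

theorem v2 {W : Type*} [AddCommGroup W] [Module F W] (w : W) : w + w = 0 := by
  rw [← two_smul F, CharTwo.two_eq_zero, zero_smul]

/-- `frobenius` is bijective. -/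
theorem sqrt (s : F) : ∃ r : F, r ^ 2 = s := let ⟨r, e⟩ := isSquare_of_charTwo' s; ⟨r, (pow_two r).trans e.symm⟩

theorem B_self (u : V k F) : B u u = 0 := (Symp.bil_isAlt _ _).self_eq_zero u

theorem B_symm (u v : V k F) : B u v = B v u := ((Symp.bil_isAlt _ _).neg_eq v u).symm.trans (CharTwo.neg_eq _)

theorem B_add (x u v : V k F) : B x (u + v) = B x u + B x v := map_add _ _ _

theorem add_B (x u v : V k F) : B (u + v) x = B u x + B v x := by rw [B_symm, B_add, B_symm x, B_symm x]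

theorem B_smul (x u : V k F) (l : F) : B x (l • u) = l * B x u := map_smul _ _ _

theorem smul_B (x u : V k F) (l : F) : B (l • u) x = l * B u x := by rw [B_symm, B_smul, B_symm x]

theorem B_zero (x : V k F) : B x 0 = 0 := map_zero _

theorem zero_B (x : V k F) : B 0 x = 0 := by rw [B_symm, B_zero]

theorem B_nd (h : ∀ x, B x u = 0) : u = 0 := (Symp.bil_nondegenerate _ _).2 u h

theorem B_one (h : u ≠ 0) : ∃ x, B x u = 1 :=
  let ⟨x, e⟩ := not_forall.1 (mt B_nd h); ⟨(B x u)⁻¹ • x, by rw [smul_B, inv_mul_cancel₀ e]⟩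

/-- Expand `B`. -/
scoped macro "bsp" loc:(Lean.Parser.Tactic.location)? : tactic => `(tactic| simp only [B_add, add_B, B_smul, smul_B, B_self, B_zero, zero_B] $[$loc]?)

/-- An identity of vectors, coordinatewise. -/
scoped macro "vct" : tactic => `(tactic| (funext i; simp only [Pi.add_apply, Pi.smul_apply, smul_eq_mul, Pi.zero_apply]; grind only))

/-- The same, using an identity of vectors. -/
scoped macro "vcu" h:term : tactic => `(tactic|
  (funext i; have hi := congrFun $h i; simp only [Pi.add_apply, Pi.smul_apply, smul_eq_mul, Pi.zero_apply] at hi ⊢; grind only))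

/-- Apply `β x`: the squares give `β x (a + b) = β x (c + d)`, so `e = a + b = c + d ≠ 0`.  Then `β x (a + c) • e + β x e • (a + c) = 0`; take `β x e = 1`. -/
theorem two_tv {W : Type*} [AddCommGroup W] [Module F W] {β : LinearMap.BilinForm F W} (hN : ∀ w, (∀ x, β x w = 0) → w = 0) {a b c d : W} (hne : a ≠ b)
    (h : ∀ x, β x a • a + β x b • b = β x c • c + β x d • d) : c + d = a + b ∧ ∃ l : F, c = a + l • (a + b) := by
  have ex : ∀ {v w : W}, (∀ x, β x v = β x w) → v = w := fun h => sub_eq_zero.1 (hN _ fun x => by rw [map_sub, h, sub_self])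
  have e : c + d = a + b := ex fun x => by
    have := congrArg (β x) (h x)
    simp only [map_add, map_smul, smul_eq_mul] at this ⊢
    exact (frobenius_inj F 2 (by simp only [frobenius_def]; grind only))
  obtain ⟨x, hx⟩ := not_forall.1 (mt (ex (v := a) (w := b)) hne)
  refine ⟨e, (β x a + β x c) / (β x a + β x b), ex fun y => ?_⟩
  have h1 := congrArg (β y) (h x)
  have h2 := congrArg (β y) e
  have h3 := congrArg (β x) e
  simp only [map_add, map_smul, smul_eq_mul] at h1 h2 h3 ⊢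
  grind only

theorem T_mv (u x : V k F) : (T u).1 *ᵥ x = x + B x u • u := by rw [Symp.coe_tvSp, Symp.tvMat_mulVec, one_mul]

theorem T_zero : T (0 : V k F) = 1 := Symp.tvSp_zero_left 1

theorem T_sq (u : V k F) : T u * T u = 1 := by rw [Symp.tvSp_mul, CharTwo.add_self_eq_zero, Symp.tvSp_zero_right]

theorem T_cj (g : J k F) (u : V k F) : g * T u * g⁻¹ = T (g.1 *ᵥ u) := Symp.conj_tvSp g u 1

/-- `B x u • u = B x v • v`; apply `B x`, so `B x u = B x v`. -/
theorem T_inj (h : T u = T v) : u = v := sub_eq_zero.1 (B_nd fun x => by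
  have := congrArg (fun g : J k F => B x (g.1 *ᵥ x)) h
  simp only [T_mv, B_add, B_smul] at this
  rw [B, map_sub, sub_eq_zero]; exact mul_self_eq_mul_self_iff.1 (add_left_cancel this) |>.elim id fun e => e.trans (CharTwo.neg_eq _))

theorem T_inv (u : V k F) : (T u)⁻¹ = T u := inv_eq_of_mul_eq_one_left (T_sq u)

theorem mul_mv (g h : J k F) (x : V k F) : (g * h).1 *ᵥ x = g.1 *ᵥ (h.1 *ᵥ x) := (Matrix.mulVec_mulVec ..).symm

theorem B_mv (g : J k F) (x y : V k F) : B (g.1 *ᵥ x) (g.1 *ᵥ y) = B x y := Symp.bil_mulVec g x y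

theorem cen_T {g : J k F} : Commute g (T v) ↔ g.1 *ᵥ v = v := by
  rw [commute_iff_eq, ← mul_inv_eq_iff_eq_mul, T_cj]; exact ⟨T_inj, congrArg T⟩

theorem T_cjs (u v : V k F) : T u * T v * T u = T (v + B v u • u) := by rw [← T_mv, ← T_cj, T_inv]

theorem T_comm : Commute (T u) (T v) ↔ B u v = 0 := by
  rw [cen_T, T_mv, add_eq_left, smul_eq_zero, B_symm]; exact or_iff_left_of_imp fun e => e ▸ zero_B v

theorem TT_mv (h : B a b = 0) (x : V k F) : (T a * T b).1 *ᵥ x = x + (B x a • a + B x b • b) := by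
  rw [mul_mv, T_mv, T_mv, add_B, smul_B, B_symm b, h, mul_zero, add_zero, add_right_comm, add_assoc]

/-- `TT_mv`, `two_tv`. -/
theorem TT_eq (h1 : B a b = 0) (h2 : B c d = 0) (hne : a ≠ b) (h : T a * T b = T c * T d) : c + d = a + b ∧ ∃ l : F, c = a + l • (a + b) :=
  two_tv (β := Symp.bil (Fin k) F) (fun _ => B_nd) hne fun x => add_left_cancel ((TT_mv h1 x).symm.trans (h ▸ TT_mv h2 x))

/-- `Symp.sp_ext`, `TT_mv`. -/
theorem TT_add (h : B a d = 0) (l m : F) : T (a + l • d) * T (a + m • d) = T a * T (a + (l + m) • d) := Symp.sp_ext fun x => by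
  rw [TT_mv (by bsp; rw [B_symm d, h]; simp), TT_mv (by bsp; rw [h, mul_zero, add_zero])]
  bsp; vct

/-- If the order is even, the central involution `z` of the dihedral group (`Inv.half_pow_of_even`) commutes with `T u`, `T v`, so fixes `u`, `v` (`T_cj`, `T_inj`);
every power of `T u * T v` fixes the vectors orthogonal to `u` and `v`; `x = (x + r • u + s • v) + r • u + s • v` with the bracket orthogonal to both. -/
theorem odd_TT (h : B u v ≠ 0) : Odd (orderOf (T u * T v)) := by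
  refine Nat.not_even_iff_odd.1 fun e => ?_
  obtain ⟨a, b, c⟩ := Inv.half_pow_of_even (T_sq u) (T_sq v) e
  generalize orderOf (T u * T v) / 2 = n at a b c
  have f : ∀ x, B x u = 0 → B x v = 0 → ∀ n, ((T u * T v) ^ n).1 *ᵥ x = x := fun x p q n => by
    induction n with
    | zero => exact Matrix.one_mulVec x
    | succ n ih => rw [pow_succ, mul_mv, mul_mv, T_mv v, q, zero_smul, add_zero, T_mv, p, zero_smul, add_zero, ih]
  rw [show (T u * T v) ^ n = 1 from Symp.sp_ext fun x => ?_, orderOf_one] at a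
  · exact absurd a (by decide)
  have := f (x + (B x v / B u v) • u + (B x u / B u v) • v) (by bsp; rw [B_symm v]; grind only) (by bsp; grind only) n
  rw [Matrix.mulVec_add, Matrix.mulVec_add, Matrix.mulVec_smul, Matrix.mulVec_smul, cen_T.1 b, cen_T.1 c, add_left_inj, add_left_inj] at this
  exact this.trans (Matrix.one_mulVec x).symm

/-- `Symp.eq_top_of_tvSp_mem`, `Symp.tvSp_smul`, `sqrt`. -/
theorem T_gen {H : Subgroup (J k F)} (h : ∀ v, T v ∈ H) : H = ⊤ :=
  Symp.eq_top_of_tvSp_mem H fun v c => let ⟨r, e⟩ := sqrt c; by simpa only [Symp.tvSp_smul, e, mul_one] using h (r • v)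

/-- `Symp.mem_center_sp_iff`; `-1 = 1`. -/
theorem J_cen {g : J k F} (h : g ∈ center (J k F)) : g = 1 :=
  ((Symp.mem_center_sp_iff g).1 h).elim id fun e => e.trans (Subtype.ext (by ext i j; simp [Symp.negOneSp, CharTwo.neg_eq]))

/-- The orthogonal complement of a family. -/
noncomputable def Pe {n : ℕ} (s : Fin n → V k F) : Submodule F (V k F) := (Symp.bil (Fin k) F).orthogonal (Submodule.span F (Set.range s))

theorem mem_Pe {n : ℕ} {s : Fin n → V k F} : y ∈ Pe s ↔ ∀ i, B y (s i) = 0 :=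
  ⟨fun h i => (B_symm ..).trans (h _ (Submodule.subset_span ⟨i, rfl⟩)), fun h _ m => Submodule.span_le (p := LinearMap.ker (Symp.bil (Fin k) F y)).2
    (Set.range_subset_iff.2 h) m ▸ B_symm ..⟩

theorem fr_sp {n : ℕ} (s : Fin n → V k F) : Module.finrank F (Submodule.span F (Set.range s)) ≤ n := (finrank_range_le_card s).trans_eq (Fintype.card_fin n)

theorem fr_Pe {n : ℕ} (s : Fin n → V k F) : Module.finrank F (Pe s) = k + k - Module.finrank F (Submodule.span F (Set.range s)) := by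
  rw [Pe, LinearMap.BilinForm.finrank_orthogonal (Symp.bil_nondegenerate _ _)]; simp

theorem span_of {n : ℕ} {s : Fin n → V k F} (h : ∀ y ∈ Pe s, B y x = 0) : x ∈ Submodule.span F (Set.range s) :=
  (LinearMap.BilinForm.orthogonal_orthogonal (Symp.bil_nondegenerate _ _) (Symp.bil_isAlt _ _).isRefl _).le h

/-- Double perp (`mem_span_of_iInf_ker_le_ker` for the forms `B · a`, `B · b`, or `LinearMap.BilinForm.orthogonal_orthogonal`). -/
theorem span2 (h : ∀ y, B y a = 0 → B y b = 0 → B y x = 0) : ∃ l m : F, x = l • a + m • b :=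
  let ⟨c, e⟩ := (Submodule.mem_span_range_iff_exists_fun F).1 (span_of (s := ![a, b]) fun y m => h y (mem_Pe.1 m 0) (mem_Pe.1 m 1))
  ⟨c 0, c 1, by simpa using e.symm⟩

/-- `S = ⟨x, y, z⟩^⊥` has dimension at least `2 k - 3 ≥ 3`.  If it is totally isotropic, `S ≤ S^⊥ = ⟨x, y, z⟩`, so `S = ⟨x, y, z⟩` has dimension `3`:
`z ≠ 0` and `x ⊥ y`.  Rescale. -/
theorem hyp3 (hk : 3 ≤ k) (h : B x y ≠ 0 ∨ z = 0) :
    ∃ u v, B u v = 1 ∧ (B u x = 0 ∧ B u y = 0 ∧ B u z = 0) ∧ B v x = 0 ∧ B v y = 0 ∧ B v z = 0 := by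
  obtain ⟨u, a, v, b, e⟩ : ∃ u ∈ Pe ![x, y, z], ∃ v ∈ Pe ![x, y, z], B u v ≠ 0 := by
    by_contra! n
    have le : Pe ![x, y, z] ≤ _ := fun v b => span_of fun u a => n u a v b
    have f1 := fr_sp ![x, y, z]
    have f2 := fr_Pe ![x, y, z]
    have f3 := Submodule.finrank_mono le
    rcases h with h | rfl
    · exact h (mem_Pe.1 ((Submodule.eq_of_le_of_finrank_le le (by omega)).ge (Submodule.subset_span ⟨0, rfl⟩)) 1)
    · have := (Submodule.finrank_mono (Submodule.span_le (s := Set.range ![x, y, 0]).2 (Set.range_subset_iff.2 fun i => by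
        fin_cases i
        exacts [Submodule.subset_span ⟨0, rfl⟩, Submodule.subset_span ⟨1, rfl⟩, zero_mem _]))).trans (fr_sp ![x, y])
      omega
  have := mem_Pe.1 (Submodule.smul_mem _ (B u v)⁻¹ a)
  exact ⟨_, v, by rw [smul_B, inv_mul_cancel₀ e], ⟨this 0, this 1, this 2⟩, mem_Pe.1 b 0, mem_Pe.1 b 1, mem_Pe.1 b 2⟩

/-- `⟨x, y, z⟩^⊥` has dimension at least `3`, so it is not contained in `⟨a, b⟩`. -/
theorem off2 (hk : 3 ≤ k) (x y z a b : V k F) : ∃ u, (B u x = 0 ∧ B u y = 0 ∧ B u z = 0) ∧ ∀ l m : F, u ≠ l • a + m • b := by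
  obtain ⟨u, p, q⟩ : ∃ u ∈ Pe ![x, y, z], u ∉ Submodule.span F (Set.range ![a, b]) := SetLike.not_le_iff_exists.1 fun le => by
    have := fr_sp ![x, y, z]
    have := fr_Pe ![x, y, z]
    have := (Submodule.finrank_mono le).trans (fr_sp _)
    omega
  exact ⟨u, ⟨mem_Pe.1 p 0, mem_Pe.1 p 1, mem_Pe.1 p 2⟩, fun l m e => q ((Submodule.mem_span_range_iff_exists_fun F).2 ⟨![l, m], by simpa using e.symm⟩)⟩

/-- `off2` twice. -/
theorem ti3 (hk : 3 ≤ k) (v : V k F) : ∃ e e', B e v = 0 ∧ B e' v = 0 ∧ B e e' = 0 ∧ ∀ l : F, e ≠ l • v ∧ e' ≠ l • v ∧ e + e' ≠ l • v := by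
  obtain ⟨e, a, b⟩ := off2 hk v v v v 0
  obtain ⟨e', c, d⟩ := off2 hk v e e v e
  exact ⟨e, e', a.1, c.1, (B_symm ..).trans c.2.1, fun l => ⟨by simpa using b l 0, by simpa using d l 0, fun f => d l 1 (by vcu f)⟩⟩

theorem not2 (h1 : B u x ≠ 0) (h2 : B v y ≠ 0) : ∃ l m : F, B u (l • x + m • y) ≠ 0 ∧ B v (l • x + m • y) ≠ 0 := by
  by_contra! n
  have := n 1 0
  have := n 0 1
  have := n 1 1
  bsp at *
  grind only

/-- Three proper subspaces do not cover `V` (count: each has `q^(2k-1)` elements and contains `0`; or `Subspace.biUnion_ne_univ_of_top_nmem`-type lemmas; or by hand). -/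
theorem not3 (hl : l ≠ 0) (hl' : l ≠ 1) (hu : u ≠ 0) (hv : v ≠ 0) (hw : w ≠ 0) : ∃ y, B u y ≠ 0 ∧ B v y ≠ 0 ∧ B w y ≠ 0 := by
  obtain ⟨x, hx⟩ := B_one hu
  obtain ⟨y, hy⟩ := B_one hv
  obtain ⟨z, hz⟩ := B_one hw
  obtain ⟨r, s, a, b⟩ := not2 (u := u) (v := v) (x := x) (y := y) (by rw [B_symm, hx]; exact one_ne_zero) (by rw [B_symm, hy]; exact one_ne_zero)
  generalize r • x + s • y = y at a b
  by_contra! n
  have k : ∀ s ≠ 0, B u y + s * B u z = 0 ∨ B v y + s * B v z = 0 := fun s o => by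
    by_contra! c
    exact o (by simpa only [B_add, B_smul, n y a b, B_symm w z, hz, mul_one, zero_add] using n (y + s • z) (by bsp; exact c.1) (by bsp; exact c.2))
  rcases k 1 one_ne_zero with e | e <;> rcases k l hl with f | f <;> rcases k (l + 1) (by grind only) with g | g <;> grind only

/-- `x^⊥` has at least `q^5` elements, the right side at most `q^2`. -/
theorem cover (hk : 3 ≤ k) (x : V k F) (p d : F → V k F) : ¬ ∀ u, B u x = 0 → ∃ l m : F, u = p l + m • d l := fun h => by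
  choose f g e using fun u : Pe ![x] => h u (mem_Pe.1 u.2 0)
  have := Nat.card_le_card_of_injective (fun u => (f u, g u)) fun u v o => Subtype.ext (by rw [e, e v, (Prod.mk.inj o).1, (Prod.mk.inj o).2])
  rw [Nat.card_prod, Module.natCard_eq_pow_finrank (K := F), ← pow_two, Nat.pow_le_pow_iff_right Finite.one_lt_card, fr_Pe] at this
  have := fr_sp ![x]
  omega

/-- `φ` is injective, hence bijective; additivity and homogeneity by nondegeneracy (test against `φ y`); `Symp.mem_iff_bil`, `LinearMap.toMatrix'`. -/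
theorem isom {φ : V k F → V k F} (h : ∀ u v, B (φ u) (φ v) = B u v) : ∃ g : J k F, ∀ v, g.1 *ᵥ v = φ v := by
  have ex : ∀ {u v : V k F}, (∀ y, B y u = B y v) → u = v := fun h => sub_eq_zero.1 (B_nd fun x => by rw [B, map_sub, sub_eq_zero]; exact h x)
  have su := Finite.surjective_of_injective (f := φ) fun u v e => ex fun y => by rw [← h, e, h]
  let f : V k F →ₗ[F] V k F := ⟨⟨φ, fun u v => ex (su.forall.2 fun y => by rw [B_add, h, h, h, B_add])⟩, fun c v => ex (su.forall.2 fun y => by rw [B_smul, h, h, B_smul]; rfl)⟩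
  exact ⟨⟨LinearMap.toMatrix' f, Symp.mem_iff_bil.2 fun u v => by rw [LinearMap.toMatrix'_mulVec, LinearMap.toMatrix'_mulVec]; exact h u v⟩, LinearMap.toMatrix'_mulVec f⟩

/-- `B x v = 1`; `g x + x` is orthogonal to `v^⊥`, so `g x = x + s • v` (`span2` with `b = 0`); `s = l²`. -/
theorem fix_perp {g : J k F} (hv : v ≠ 0) (h : ∀ u, B u v = 0 → g.1 *ᵥ u = u) : ∃ l : F, g = T (l • v) := by
  obtain ⟨x, hx⟩ := B_one hv
  obtain ⟨s, _, e⟩ := span2 (x := g.1 *ᵥ x + x) (a := v) (b := 0) fun y a _ => by rw [B_add, ← h y a, B_mv, h y a, CharTwo.add_self_eq_zero]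
  obtain ⟨l, rfl⟩ := sqrt s
  refine ⟨l, Symp.sp_ext fun y => ?_⟩
  have := h (y + B y v • x) (by bsp; grind only)
  rw [Matrix.mulVec_add, Matrix.mulVec_smul, ← eq_sub_iff_add_eq, eq_sub_of_add_eq e] at this
  rw [this, T_mv, B_smul]; funext i; simp only [Pi.add_apply, Pi.sub_apply, Pi.smul_apply, smul_eq_mul, Pi.zero_apply]; grind only

/-- Pair transitivity inside `H = x^⊥`.  `B u u' ≠ 0`: `y = r • (u + u')`, `r² B u u' = 1`, moves `u` to `u'`.  In general go through `u''` with `B u u'' ≠ 0 ≠ B u' u''`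
(`v`, `v'` or `v + v'`).  For `u = u'`: `y = r • (v + v')` fixes `u` and moves `v` to `v'` if `B v v' ≠ 0`; otherwise go through `v + u`. -/
theorem pair_tr {α : Type*} {γ : V k F → V k F → α}
    (h : ∀ u v y, B u x = 0 → B v x = 0 → B y x = 0 → γ (u + B u y • y) (v + B v y • y) = γ u v)
    {u v u' v' : V k F} (h1 : B u x = 0) (h2 : B v x = 0) (h3 : B u' x = 0) (h4 : B v' x = 0) (h0 : B u v ≠ 0) (e : B u v = B u' v') : γ u v = γ u' v' := by
  have mv : ∀ {a b : V k F}, B a b ≠ 0 → ∃ r : F, a + B a (r • (a + b)) • r • (a + b) = b := fun {a b} n =>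
    let ⟨r, e⟩ := sqrt (B a b)⁻¹; ⟨r, by bsp; vct⟩
  have m1 : ∀ {u u' v : V k F}, B u x = 0 → B u' x = 0 → B v x = 0 → B u u' ≠ 0 → ∃ v', B v' x = 0 ∧ B u' v' = B u v ∧ γ u v = γ u' v' := fun {u u' v} a b c n => by
    obtain ⟨r, e⟩ := mv n
    refine ⟨v + B v (r • (u + u')) • r • (u + u'), by bsp; grind only, ?_, ?_⟩
    · have := B_mv (T (r • (u + u'))) u v
      rwa [T_mv, T_mv, e] at this
    · rw [← h u v (r • (u + u')) a c (by bsp; grind only), e]
  have m2 : ∀ {u v v' : V k F}, B u x = 0 → B v x = 0 → B v' x = 0 → B u v = B u v' → B v v' ≠ 0 → γ u v = γ u v' := fun {u v v'} a b c e n => by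
    obtain ⟨r, f⟩ := mv n
    rw [← h u v (r • (v + v')) a b (by bsp; grind only), f, show B u (r • (v + v')) = 0 by bsp; grind only, zero_smul, add_zero]
  obtain ⟨l, m, a, b⟩ := not2 h0 (e ▸ h0)
  have c : B (l • v + m • v') x = 0 := by bsp; grind only
  obtain ⟨w, p, q, r⟩ := m1 h1 c h2 a
  obtain ⟨w', p', q', r'⟩ := m1 c h3 p (B_symm u' _ ▸ b)
  rw [r, r']
  refine (eq_or_ne (B w' v') 0).elim (fun o => (m2 (v' := w' + u') h3 p' (by bsp; grind only) (by bsp; rw [add_zero]) ?_).trans (m2 h3 (by bsp; grind only) h4 (by bsp; grind only) ?_))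
    (m2 h3 p' h4 (by grind only))
  · bsp; rw [B_symm]; grind only
  · bsp; grind only

/-- `γ u v = s (B u v)` (`pair_tr`, `hyp3`).  Two orthogonal hyperbolic pairs `e₁, f₁`, `e₂, f₂` in `x^⊥` (`hyp3` twice); `u = e₁`, `v = r • f₁ + e₂`, `w = r' • f₁ + c • f₂` give
`s (c + r r') = s c + s r * s r'`.  So `s` is an injective ring homomorphism of a finite field. -/
theorem gam (hk : 3 ≤ k) {γ : V k F → V k F → F}
    (h : ∀ u v y, B u x = 0 → B v x = 0 → B y x = 0 → γ (u + B u y • y) (v + B v y • y) = γ u v)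
    (h0 : ∀ u v, B u x = 0 → B v x = 0 → (γ u v = 0 ↔ B u v = 0))
    (h1 : ∀ u v w, B u x = 0 → B v x = 0 → B w x = 0 → γ (v + B v u • u) w = γ v w + γ v u * γ u w) :
    ∃ σ : F ≃+* F, ∀ u v, B u x = 0 → B v x = 0 → γ u v = σ (B u v) := by
  obtain ⟨e, f, ef, ⟨e1, -⟩, f1, -⟩ := hyp3 hk (x := x) (y := x) (.inr rfl)
  obtain ⟨e', f', ef', ⟨a1, a2, a3⟩, b1, b2, b3⟩ := hyp3 hk (x := e) (y := f) (z := x) (.inl (ef ▸ one_ne_zero))
  obtain ⟨s, hs⟩ : ∃ s : F → F, ∀ u v, B u x = 0 → B v x = 0 → γ u v = s (B u v) := ⟨fun c => γ e (c • f), fun u v a b => by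
    have c : B (B u v • f) x = 0 := by rw [smul_B, f1, mul_zero]
    have d : B e (B u v • f) = B u v := by rw [B_smul, ef, mul_one]
    exact (eq_or_ne (B u v) 0).elim (fun o => ((h0 u v a b).2 o).trans ((h0 _ _ e1 c).2 (d.trans o)).symm) fun o => pair_tr h a b e1 c o d.symm⟩
  have z : ∀ c, s c = 0 ↔ c = 0 := fun c => by simpa only [hs e (c • f) e1 (by rw [smul_B, f1, mul_zero]), B_smul, ef, mul_one] using h0 e (c • f) e1 (by rw [smul_B, f1, mul_zero])
  have k : ∀ c r r', s (c + r * r') = s c + s r * s r' := fun c r r' => by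
    have p : B (r • f + e') x = 0 := by bsp; grind only
    have q : B (r' • f + c • f') x = 0 := by bsp; grind only
    have := h1 e _ _ e1 p q
    rw [hs _ _ (by rw [add_B, p, smul_B, e1, mul_zero, add_zero]) q, hs _ _ p q, hs _ _ p e1, hs _ _ e1 q] at this
    bsp at this
    simpa only [B_symm f e, B_symm e f', B_symm f f', ef, ef', a1, a2, b1, b2, mul_zero, mul_one, add_zero, zero_add, mul_comm r' r, add_comm _ c] using this
  have m : ∀ r r', s (r * r') = s r * s r' := fun r r' => by simpa [(z 0).2 rfl] using k 0 r r'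
  have o : s 1 = 1 := mul_left_cancel₀ (mt (z 1).1 one_ne_zero) (by rw [← m, mul_one, mul_one])
  let σ : F →+* F := ⟨⟨⟨s, o⟩, m⟩, (z 0).2 rfl, fun a b => by simpa [o] using k a b 1⟩
  exact ⟨.ofBijective σ (Finite.injective_iff_bijective.1 σ.injective), hs⟩

end Cfsg.Lib.SPD
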