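import Cfsg.Agent.Lib.SPD.La

/-!
# S3129, case `δ`: charts, lines, the commuting graph.  `x ∼ y` means `Commute x y`.
-/

set_option autoImplicit false
set_option linter.unusedSectionVars false

namespace Cfsg.Lib.SPD

open Subgroup
open scoped Matrix

variable {k : ℕ} {F G : Type*} [Field F] [Finite F] [CharP F 2] [Group G] [Finite G] {D : Set G} {ψ ψ' : J k F →* G}
  {a b c c' d e g p x y z : G} {u v w : V k F} {l m : F}

theorem pt_zero : pt ψ c 0 = c := by rw [pt, T_zero, map_one, mul_one]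

/-- Conjugate chart. -/
abbrev cψ (g : G) (ψ : J k F →* G) : J k F →* G := (MulAut.conj g).toMonoidHom.comp ψ

theorem pt_cψ (g : G) (v : V k F) : pt (cψ g ψ) (g * c * g⁻¹) v = g * pt ψ c v * g⁻¹ := conj_mul

/-- Twisted chart. -/
noncomputable abbrev fψ (σ : F ≃+* F) (ψ : J k F →* G) : J k F →* G := ψ.comp (Symp.fieldSp σ : MulAut (J k F)).toMonoidHom

/-- `Symp.fieldSp_tvSp`. -/
theorem pt_fψ (σ : F ≃+* F) (v : V k F) : pt (fψ σ ψ) c v = pt ψ c (σ ∘ v) := congrArg (c * ψ ·) ((Symp.fieldSp_tvSp σ v 1).trans (by rw [map_one]; rfl))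

theorem B_fld (σ : F ≃+* F) (u v : V k F) : B (σ ∘ u) (σ ∘ v) = σ (B u v) := Symp.bil_comp (σ : F →+* F) u v

namespace Ch

variable (h : Ch D ψ c)
include h

theorem pt_mem (v : V k F) : pt ψ c v ∈ D := ((h.dx _).2 ⟨v, rfl⟩).1

theorem pt_cm (v : V k F) : Commute c (pt ψ c v) := ((h.dx _).2 ⟨v, rfl⟩).2

theorem ex (hx : x ∈ D) (hc : Commute c x) : ∃ v, x = pt ψ c v := (h.dx _).1 ⟨hx, hc⟩

theorem mem : c ∈ D := pt_zero (ψ := ψ) (c := c) ▸ h.pt_mem 0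

theorem pt_mul (u v : V k F) : pt ψ c u * pt ψ c v = ψ (T u * T v) := by rw [pt, pt, (h.cm _).symm.mul_mul_mul_comm, h.c2, one_mul, map_mul]

theorem c_mul (v : V k F) : c * pt ψ c v = ψ (T v) := by rw [pt, ← mul_assoc, h.c2, one_mul]

theorem pt_sq (v : V k F) : pt ψ c v * pt ψ c v = 1 := by rw [h.pt_mul, T_sq, map_one]

theorem pt_comm : Commute (pt ψ c u) (pt ψ c v) ↔ B u v = 0 := by
  rw [commute_iff_eq, h.pt_mul, h.pt_mul, h.inj.eq_iff]; exact T_comm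

theorem pt_inj (e : pt ψ c u = pt ψ c v) : u = v := T_inj (h.inj (mul_left_cancel e))

theorem pt_cj (u v : V k F) : pt ψ c u * pt ψ c v * pt ψ c u = pt ψ c (v + B v u • u) := by rw [mul_assoc, h.pt_mul, pt, mul_assoc, ← map_mul, ← mul_assoc, T_cjs, pt]

theorem ψ_cj (x : J k F) (v : V k F) : ψ x * pt ψ c v * (ψ x)⁻¹ = pt ψ c (x.1 *ᵥ v) := by rw [pt, ← mul_assoc, ← (h.cm x).eq, pt, ← T_cj, map_mul, map_mul, map_inv, mul_assoc, mul_assoc, mul_assoc]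

/-- `x` is central (`inj`, `cm`), `J_cen`. -/
theorem nm (x : J k F) : ψ x ≠ c := fun e =>
  h.c1 (by rw [← e, J_cen (g := x) (mem_center_iff.2 fun y => h.inj (by rw [map_mul, map_mul, e, (h.cm y).eq])), map_one])

/-- `g` commutes with `ψ (T v) = c * pt v`; `T_gen`. -/
theorem cen (hg : ∀ v, Commute g (pt ψ c v)) (x : J k F) : Commute g (ψ x) :=
  (mem_centralizer_singleton_iff.1 ((T_gen (H := (centralizer {g}).comap ψ) fun v => mem_centralizer_singleton_iff.2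
    (h.c_mul v ▸ (pt_zero (ψ := ψ) (c := c) ▸ hg 0 : Commute g c).mul_right (hg v)).eq.symm).ge (mem_top x))).symm

theorem conj (hD : ∀ a ∈ D, ∀ g, g * a * g⁻¹ ∈ D) (g : G) : Ch D (cψ g ψ) (g * c * g⁻¹) := by
  have i := (MulAut.conj g).injective
  have k : ∀ {x y : G}, Commute (MulAut.conj g x) (MulAut.conj g y) ↔ Commute x y := ⟨fun e => e.of_map i, fun e => e.map _⟩
  refine ⟨fun e => h.c1 (conj_eq_one_iff.1 e), by rw [conj_mul, h.c2, mul_one, mul_inv_cancel], i.comp h.inj, fun x => k.2 (h.cm x),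
    (MulAut.conj g).surjective.forall.2 fun x => (and_congr ⟨fun e => by simpa [mul_assoc] using hD _ e g⁻¹, fun e => hD x e g⟩ k).trans ((h.dx x).trans
      (exists_congr fun v => by rw [pt_cψ]; exact i.eq_iff.symm)), (MulAut.conj g).surjective.forall.2 fun x a b e => ?_⟩
  exact (h.kinv x (k.1 a) (fun y => k.1 (b y)) (i (by rw [map_mul, e, map_one]))).imp (fun e => by rw [e, map_one]) (congrArg _)

theorem fld (σ : F ≃+* F) : Ch D (fψ σ ψ) c :=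
  ⟨h.c1, h.c2, h.inj.comp (Symp.fieldSp σ : MulAut (J k F)).injective, fun _ => h.cm _, fun g => (h.dx g).trans
    ⟨fun ⟨v, e⟩ => ⟨σ.symm ∘ v, by rw [pt_fψ, e]; congr; funext i; simp⟩, fun ⟨v, e⟩ => ⟨_, e.trans (pt_fψ σ v)⟩⟩,
    fun g a b => h.kinv g a ((Symp.fieldSp σ : MulAut (J k F)).surjective.forall.2 b)⟩

/-- `z = ψ (T u * T v)` commutes with `c`, so `pt w * z = pt w'` (`ex`), `T w * T w' = T u * T v`; `TT_eq`. -/
theorem la (h0 : B u v = 0) (hne : u ≠ v) (hw : pt ψ c w ∈ La D (pt ψ c u * pt ψ c v)) : ∃ l : F, w = u + l • (u + v) := by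
  obtain ⟨w', e⟩ := h.ex hw.2.2 ((h.pt_cm w).mul_right ((h.pt_cm u).mul_right (h.pt_cm v)))
  exact (TT_eq h0 (h.pt_comm.1 (e ▸ (Commute.refl _).mul_right hw.2.1)) hne (h.inj (by rw [← h.pt_mul, ← h.pt_mul, ← e, ← mul_assoc, h.pt_sq, one_mul]))).2

/-- `TT_add` with `d = u + v`, `m = l + 1`. -/
theorem ln_mul (h0 : B u v = 0) (l : F) :
    pt ψ c (u + l • (u + v)) * (pt ψ c u * pt ψ c v) = pt ψ c (u + (l + 1) • (u + v)) := by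
  have := TT_add (a := u) (d := u + v) (by rw [B_add, h0, B_self, add_zero]) l (l + 1)
  rw [show u + (l + (l + 1)) • (u + v) = v by vct] at this
  rw [h.pt_mul, ← this, pt, mul_assoc, ← map_mul, ← mul_assoc, T_sq, one_mul, pt]

end Ch

theorem La.mul (hd : d ∈ La D z) (z2 : z * z = 1) : d * z ∈ La D z := ⟨hd.2.2, hd.2.1.mul_left (.refl z), by rw [mul_assoc, z2, mul_one]; exact hd.1⟩

theorem La.conj (hD : ∀ a ∈ D, ∀ g, g * a * g⁻¹ ∈ D) (hd : d ∈ La D z) (g : G) : g * d * g⁻¹ ∈ La D (g * z * g⁻¹) :=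
  ⟨hD d hd.1 g, hd.2.1.map (MulAut.conj g), by rw [conj_mul]; exact hD _ hd.2.2 g⟩

theorem cp_self (ha : a ∈ D) : a ∈ Cp D a := ⟨ha, a, ha, .refl a, .refl a⟩

theorem cp_cm (hb : b ∈ D) (h : Commute a b) : b ∈ Cp D a := ⟨hb, b, hb, h, .refl b⟩

namespace Dl

variable (s : Dl k F D)
include s

theorem sq (ha : a ∈ D) : a * a = 1 := (s.ch a ha).elim fun _ h => h.c2

theorem ne_one (ha : a ∈ D) : a ≠ 1 := (s.ch a ha).elim fun _ h => h.c1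

theorem inv (ha : a ∈ D) : a⁻¹ = a := inv_eq_of_mul_eq_one_right (s.sq ha)

theorem cj' (ha : a ∈ D) (hb : b ∈ D) : a * b * a ∈ D := by simpa only [s.inv ha] using s.cj b hb a

theorem la_mk (ha : a ∈ D) (hb : b ∈ D) (h : Commute a b) : a ∈ La D (a * b) := ⟨ha, (Commute.refl a).mul_right h, by rwa [← mul_assoc, s.sq ha, one_mul]⟩

theorem la_sq (hd : d ∈ La D z) : z * z = 1 := by simpa only [hd.2.1.symm.mul_mul_mul_comm, s.sq hd.1, one_mul] using s.sq hd.2.2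

/-- `⇐`: `Ch.ln_mul`.  `⇒`: in a chart `ψ'` at `a = pt u = pt' 0`: `pt v = pt' β`, `c = pt' γ`, `d = pt' w`, `w = l • β` (`Ch.la`), `B γ β = 0`; so `d ∼ c` and `Ch.la`
applies in the chart `ψ`. -/
theorem ln (h : Ch D ψ c) (h0 : B u v = 0) (hne : u ≠ v) :
    d ∈ Ln D (pt ψ c u) (pt ψ c u * pt ψ c v) ↔ ∃ l : F, d = pt ψ c (u + l • (u + v)) := by
  refine ⟨fun ⟨a, b⟩ => ?_, ?_⟩
  · obtain ⟨ψ', h'⟩ := s.ch _ (h.pt_mem u)
    obtain ⟨β, e1⟩ := h'.ex (h.pt_mem v) (h.pt_comm.2 h0)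
    obtain ⟨γ, e2⟩ := h'.ex h.mem (h.pt_cm u).symm
    obtain ⟨w, e3⟩ := h'.ex a.1 b
    obtain ⟨l, e4⟩ := h'.la (w := w) (zero_B β) (fun e => hne (h.pt_inj (by rw [e1, ← e, pt_zero]))) (by rwa [pt_zero, ← e1, ← e3])
    have o : B γ β = 0 := h'.pt_comm.1 (by rw [← e1, ← e2]; exact h.pt_cm v)
    obtain ⟨w', rfl⟩ := h.ex a.1 (by have := h'.pt_comm.2 (show B γ w = 0 by rw [e4]; bsp; simp [o]); rwa [← e2, ← e3] at this)
    obtain ⟨l, e⟩ := h.la h0 hne a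
    exact ⟨l, e ▸ rfl⟩
  · rintro ⟨l, rfl⟩
    have a : B (u + l • (u + v)) u = 0 := by bsp; simp [B_symm v, h0]
    exact ⟨⟨h.pt_mem _, (h.pt_comm.2 a).mul_right (h.pt_comm.2 (by bsp; simp [h0])), h.ln_mul h0 l ▸ h.pt_mem _⟩, (h.pt_comm.2 a).symm⟩

/-- `ln` with `u = 0`. -/
theorem ln0 (h : Ch D ψ c) (hv : v ≠ 0) : d ∈ Ln D c (c * pt ψ c v) ↔ ∃ l : F, d = pt ψ c (l • v) := by
  simpa only [pt_zero, zero_add] using s.ln (d := d) h (zero_B v) hv.symm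

/-- A point that commutes with two points of a line commutes with the line (`ln` in a chart at `p`). -/
theorem ln_cm (ha : a ∈ D) (hb : b ∈ D) (hne : a ≠ b) (hc : Commute a b) (hp : p ∈ D) (h1 : Commute p a) (h2 : Commute p b)
    (hd : d ∈ Ln D a (a * b)) : Commute p d := by
  obtain ⟨ψ, h⟩ := s.ch p hp
  obtain ⟨α, rfl⟩ := h.ex ha h1
  obtain ⟨β, rfl⟩ := h.ex hb h2
  obtain ⟨l, rfl⟩ := (s.ln h (h.pt_comm.1 hc) (mt (congrArg _) hne)).1 hd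
  exact h.pt_cm _

/-- One step of `path`, in a chart at `b` with `c = pt γ`.  In a chart `ψ'` at `c`: `b = pt' β`, `pt w = pt' ω`, `d = pt' δ`, `B β δ ≠ 0`; `ζ = ω + r • β ⊥ δ, β`;
`p = pt' ζ = pt π`.  If `y ⊥ γ, w` then `pt y = pt' η`, `η ⊥ β, ω`, so `y ⊥ π`: `π = α₀ • γ + β₀ • w` (`span2`).  If `p = c` then `pt w ∈ Ln c (c b)` (`ln0`, `ψ'`), so
`w = γ + l • (γ + 0)` (`ln`, `ψ`), against `w'`.  The points `γ + l • (γ + π)` commute with `d` (`ln`, `ln_cm`): `l = (1 + α₀)⁻¹` gives the first case; if `α₀ = 1`,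
`l = β₀⁻¹` gives the second. -/
theorem path1 (h : Ch D ψ b) {γ w' : V k F} (hd : d ∈ D) (h1 : Commute (pt ψ b γ) d) (h2 : ¬ Commute b d) (h3 : B γ w = 0) (h4 : B γ w' = 0)
    (h5 : B w w' = 1) : (∃ l : F, Commute (pt ψ b (l • w)) d) ∨ Commute (pt ψ b (γ + w)) d := by
  obtain ⟨ψ', h'⟩ := s.ch _ (h.pt_mem γ)
  obtain ⟨β, e1⟩ := h'.ex h.mem (h.pt_cm γ).symm
  obtain ⟨ω, e2⟩ := h'.ex (h.pt_mem w) (h.pt_comm.2 h3)
  obtain ⟨δ, rfl⟩ := h'.ex hd h1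
  have b0 : B β δ ≠ 0 := fun o => h2 (by have := h'.pt_comm.2 o; rwa [← e1] at this)
  have bω : B ω β = 0 := h'.pt_comm.1 (by rw [← e1, ← e2]; exact (h.pt_cm w).symm)
  obtain ⟨π, e3⟩ := h.ex (h'.pt_mem (ω + (B ω δ / B β δ) • β)) (by have := h'.pt_comm.2 (show B (ω + (B ω δ / B β δ) • β) β = 0 by bsp; simp [bω]); rw [← e1] at this; exact this.symm)
  obtain ⟨α₀, β₀, e4⟩ := span2 (x := π) (a := γ) (b := w) fun y a b => by
    obtain ⟨η, e⟩ := h'.ex (h.pt_mem y) (h.pt_comm.2 a).symm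
    have a1 : B η β = 0 := h'.pt_comm.1 (by rw [← e1, ← e]; exact (h.pt_cm y).symm)
    have a2 : B η ω = 0 := h'.pt_comm.1 (by rw [← e2, ← e]; exact h.pt_comm.2 b)
    exact h.pt_comm.1 (by rw [← e3, e]; exact h'.pt_comm.2 (by bsp; simp [a1, a2]))
  have ne : γ ≠ π := fun e => by
    have z : ω = (B ω δ / B β δ) • β := by have := h'.pt_inj (v := 0) (e3.trans (by rw [pt_zero, e])); vcu this
    have := (s.ln0 h' (v := β) fun o => b0 (by rw [o, zero_B])).2 ⟨_, e2.trans (congrArg _ z)⟩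
    rw [← e1] at this
    obtain ⟨l, o⟩ := (s.ln (d := pt ψ b w) h (B_zero γ) fun o => h2 (by nth_rw 1 [show b = pt ψ b γ by rw [o, pt_zero]]; exact h1)).1 (by rwa [pt_zero])
    rw [h.pt_inj o] at h5
    bsp at h5
    simp [h4] at h5
  have gp : B γ π = 0 := by rw [e4]; bsp; simp [h3]
  have k : ∀ l : F, Commute (pt ψ b (γ + l • (γ + π))) (pt ψ' (pt ψ b γ) δ) := fun l => (s.ln_cm (h.pt_mem γ) (h.pt_mem π) (mt h.pt_inj ne) (h.pt_comm.2 gp) hd h1.symm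
    (by rw [← e3]; exact h'.pt_comm.2 (by rw [B_symm]; bsp; grind only)) ((s.ln h gp ne).2 ⟨l, rfl⟩)).symm
  by_cases o : α₀ = 1
  · have : β₀ ≠ 0 := fun o' => ne (by simp [e4, o, o'])
    exact .inr (by rw [show γ + w = γ + β₀⁻¹ • (γ + π) by rw [e4]; vct]; exact k _)
  · exact .inl ⟨(1 + α₀)⁻¹ * β₀, by rw [show ((1 + α₀)⁻¹ * β₀) • w = γ + (1 + α₀)⁻¹ • (γ + π) by rw [e4]; vct]; exact k _⟩

/-- `x = c` if `a ∼ c`, `x = b` if `b ∼ d`.  Otherwise in a chart at `b`: `a = pt α`, `c = pt γ`, `e = pt ε`; `w, w'` from `hyp3 α γ ε`; `path1` for `w` and for `w'`;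
`pt (γ + w) * pt (γ + w') * pt (γ + w) = pt (w + w')`. -/
theorem path (ha : a ∈ D) (hb : b ∈ D) (hc : c ∈ D) (hd : d ∈ D) (he : e ∈ D) (ab : Commute a b) (bc : Commute b c) (cd : Commute c d)
    (eb : Commute e b) (ec : Commute e c) : ∃ x ∈ D, Commute x a ∧ Commute x b ∧ Commute x c ∧ Commute x d ∧ Commute x e := by
  by_cases ac : Commute a c
  · exact ⟨c, hc, ac.symm, bc.symm, .refl c, cd, ec.symm⟩
  by_cases bd : Commute b d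
  · exact ⟨b, hb, ab.symm, .refl b, bc, bd, eb.symm⟩
  obtain ⟨ψ, h⟩ := s.ch b hb
  obtain ⟨α, rfl⟩ := h.ex ha ab.symm
  obtain ⟨γ, rfl⟩ := h.ex hc bc
  obtain ⟨ε, rfl⟩ := h.ex he eb.symm
  obtain ⟨w, w', o, ⟨a1, a2, a3⟩, b1, b2, b3⟩ := hyp3 s.hk (z := ε) (.inl (mt h.pt_comm.2 ac))
  have k : ∀ x, B x α = 0 → B x γ = 0 → B x ε = 0 → Commute (pt ψ b x) d → ∃ x ∈ D, Commute x (pt ψ b α) ∧ Commute x b ∧ Commute x (pt ψ b γ) ∧ Commute x d ∧ Commute x (pt ψ b ε) :=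
    fun x p q r t => ⟨_, h.pt_mem x, h.pt_comm.2 p, (h.pt_cm x).symm, h.pt_comm.2 q, t, h.pt_comm.2 r⟩
  rcases s.path1 h hd cd bd ((B_symm ..).trans a2) ((B_symm ..).trans b2) o with ⟨l, p⟩ | p
  · exact k _ (by simp [smul_B, a1]) (by simp [smul_B, a2]) (by simp [smul_B, a3]) p
  rcases s.path1 h hd cd bd ((B_symm ..).trans b2) ((B_symm ..).trans a2) ((B_symm ..).trans o) with ⟨l, q⟩ | q
  · exact k _ (by simp [smul_B, b1]) (by simp [smul_B, b2]) (by simp [smul_B, b3]) q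
  have := (p.mul_left q).mul_left p
  rw [h.pt_cj, show B (γ + w') (γ + w) = 1 by bsp; simp [B_symm γ, B_symm w' w, a2, b2, o], show γ + w' + (1 : F) • (γ + w) = w + w' by vct] at this
  exact k _ (by simp [add_B, a1, b1]) (by simp [add_B, a2, b2]) (by simp [add_B, a3, b3]) this

/-- `path` (with `e` = a middle vertex). -/
theorem cp_adj (ha : a ∈ D) (hx : x ∈ Cp D a) (hy : y ∈ D) (h : Commute x y) : y ∈ Cp D a :=
  let ⟨x1, c, hc, p, q⟩ := hx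
  let ⟨r, hr, r1, _, _, r2, _⟩ := s.path ha hc x1 hy hc p q h (.refl c) q
  ⟨hy, r, hr, r1.symm, r2⟩

theorem cp_eq (ha : a ∈ D) (hb : b ∈ Cp D a) : Cp D b = Cp D a := by
  have k : ∀ {a b}, a ∈ D → b ∈ Cp D a → Cp D b ⊆ Cp D a := fun ha hb _ ⟨hy, _, hc, p, q⟩ => s.cp_adj ha (s.cp_adj ha hb hc p) hy q
  obtain ⟨b1, c, hc, p, q⟩ := id hb
  exact (k ha hb).antisymm (k b1 ⟨ha, c, hc, q.symm, p.symm⟩)

theorem two (ha : a ∈ D) (hx : x ∈ Cp D a) (hy : y ∈ Cp D a) : ∃ c ∈ Cp D a, Commute c x ∧ Commute c y :=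
  let ⟨_, c, hc, p, q⟩ := (s.cp_eq ha hx).ge hy
  ⟨c, s.cp_adj ha hx hc p, p.symm, q⟩

/-- `c₁ ∼ x, y`; `c₂ ∼ y, z`; `p` from `path x c₁ y c₂` (`e = y`); then `path x p c₂ z` with `e = y`. -/
theorem three (ha : a ∈ D) (hx : x ∈ Cp D a) (hy : y ∈ Cp D a) (hz : z ∈ Cp D a) :
    ∃ c ∈ Cp D a, Commute c x ∧ Commute c y ∧ Commute c z := by
  obtain ⟨c, hc, c1, c2⟩ := s.two ha hx hy
  obtain ⟨d, hd, d1, d2⟩ := s.two ha hy hz
  obtain ⟨p, hp, p1, -, p2, p3, -⟩ := s.path hx.1 hc.1 hy.1 hd.1 hy.1 c1.symm c2 d1.symm c2.symm (.refl y)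
  obtain ⟨r, hr, r1, -, -, r2, r3⟩ := s.path hx.1 hp hd.1 hz.1 hy.1 p1.symm p3 d2 p2.symm d1.symm
  exact ⟨r, s.cp_adj ha hx hr r1.symm, r1, r3, r2⟩

theorem ch2 (ha : a ∈ D) (hx : x ∈ Cp D a) (hy : y ∈ Cp D a) :
    ∃ c ∈ Cp D a, ∃ ψ : J k F →* G, Ch D ψ c ∧ ∃ u v, x = pt ψ c u ∧ y = pt ψ c v :=
  let ⟨c, hc, p, q⟩ := s.two ha hx hy
  let ⟨ψ, h⟩ := s.ch c hc.1
  let ⟨u, e⟩ := h.ex hx.1 p
  let ⟨v, f⟩ := h.ex hy.1 q
  ⟨c, hc, ψ, h, u, v, e, f⟩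

theorem ch3 (ha : a ∈ D) (hx : x ∈ Cp D a) (hy : y ∈ Cp D a) (hz : z ∈ Cp D a) :
    ∃ c ∈ Cp D a, ∃ ψ : J k F →* G, Ch D ψ c ∧ ∃ u v w, x = pt ψ c u ∧ y = pt ψ c v ∧ z = pt ψ c w :=
  let ⟨c, hc, p, q, r⟩ := s.three ha hx hy hz
  let ⟨ψ, h⟩ := s.ch c hc.1
  let ⟨u, e⟩ := h.ex hx.1 p
  let ⟨v, f⟩ := h.ex hy.1 q
  let ⟨w, g⟩ := h.ex hz.1 r
  ⟨c, hc, ψ, h, u, v, w, e, f, g⟩

/-- `ch3`: `x = pt ξ`, `y = pt η`, `z = pt ζ` in a chart at `c₁`; `c = pt u`, `u` from `off2 ξ η ζ ξ η`, is not on the line `Ln x (x y)` (`ln`).  In a chart at `x`: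
`y = pt' β`, `c = pt' γ`; if every vector orthogonal to `γ` is orthogonal to `β ≠ 0` then `β = l • γ` (`span2`), `γ = l⁻¹ • β` and `c` is on the line (`ln0`). -/
theorem three_off (ha : a ∈ D) (hx : x ∈ Cp D a) (hy : y ∈ Cp D a) (hz : z ∈ Cp D a) (hne : x ≠ y) (hc : Commute x y) :
    ∃ c ∈ Cp D a, Commute c x ∧ Commute c y ∧ Commute c z ∧ ∃ p ∈ Cp D a, Commute p x ∧ Commute p c ∧ ¬ Commute p y := by
  obtain ⟨c, c1, ψ, h, ξ, η, ζ, rfl, rfl, rfl⟩ := s.ch3 ha hx hy hz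
  obtain ⟨u, ⟨a1, a2, a3⟩, n⟩ := off2 s.hk ξ η ζ ξ η
  refine ⟨_, s.cp_adj ha c1 (h.pt_mem u) (h.pt_cm u), h.pt_comm.2 a1, h.pt_comm.2 a2, h.pt_comm.2 a3, ?_⟩
  obtain ⟨ψ', h'⟩ := s.ch _ hx.1
  obtain ⟨β, e1⟩ := h'.ex hy.1 hc
  obtain ⟨γ, e2⟩ := h'.ex (h.pt_mem u) (h.pt_comm.2 a1).symm
  by_contra! o
  obtain ⟨l, _, e⟩ := span2 (x := β) (a := γ) (b := 0) fun y p _ => h'.pt_comm.1 (e1 ▸ o _ (s.cp_adj ha hx (h'.pt_mem y) (h'.pt_cm y)) (h'.pt_cm y).symm (e2 ▸ h'.pt_comm.2 p))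
  have b0 : β ≠ 0 := fun o => hne (by rw [e1, o, pt_zero])
  have l0 : l ≠ 0 := fun o => b0 (by simp [e, o])
  obtain ⟨m, f⟩ := (s.ln h (h.pt_comm.1 hc) (mt (congrArg _) hne)).1 (by rw [e1]; exact (s.ln0 h' b0).2 ⟨l⁻¹, e2.trans (by simp [e, l0])⟩)
  exact n (1 + m) m ((h.pt_inj f).trans (by vct))

/-- `ch3`, `pt_cj`: `B π (ξ + B ξ η • η) = B ξ η * B π η`. -/
theorem cm3 (ha : a ∈ D) (hx : x ∈ Cp D a) (hy : y ∈ Cp D a) (hp : p ∈ Cp D a) (h1 : Commute p x) (h2 : Commute p (y * x * y)) :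
    Commute x y ∨ Commute p y := by
  obtain ⟨c, -, ψ, h, ξ, η, π, rfl, rfl, rfl⟩ := s.ch3 ha hx hy hp
  rw [h.pt_cj, h.pt_comm, B_add, B_smul, h.pt_comm.1 h1, zero_add, mul_eq_zero] at h2
  exact h2.imp h.pt_comm.2 h.pt_comm.2

/-- `cm3` with `p = x`. -/
theorem cm_of_cj (ha : a ∈ D) (hx : x ∈ Cp D a) (hy : y ∈ Cp D a) (h : Commute x (y * x * y)) : Commute x y := (s.cm3 ha hx hy hx (.refl x) h).elim id id

/-- `ch2`, `pt_mul`, `odd_TT`. -/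
theorem odd_of (ha : a ∈ D) (hx : x ∈ Cp D a) (hy : y ∈ Cp D a) (h : ¬ Commute x y) : Odd (orderOf (x * y)) := by
  obtain ⟨c, -, ψ, k, u, v, rfl, rfl⟩ := s.ch2 ha hx hy
  rw [k.pt_mul, orderOf_injective ψ k.inj]; exact odd_TT (mt k.pt_comm.2 h)

theorem cj_mem (ha : a ∈ D) (hx : x ∈ Cp D a) (hy : y ∈ Cp D a) : x * y * x ∈ Cp D a := by
  obtain ⟨c, hc, ψ, k, u, v, rfl, rfl⟩ := s.ch2 ha hx hy
  rw [k.pt_cj]; exact s.cp_adj ha hc (k.pt_mem _) (k.pt_cm _)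

/-- `c = pt u`, `u ≠ 0`, in a chart at `x`; in a chart at `c`, `x = pt' ξ` with `ξ ≠ 0`; `B_one`. -/
theorem nadj (ha : a ∈ D) (hx : x ∈ Cp D a) : ∃ y ∈ Cp D a, ¬ Commute x y := by
  obtain ⟨ψ, h⟩ := s.ch x hx.1
  obtain ⟨u, -, n⟩ := off2 (F := F) s.hk 0 0 0 0 0
  obtain ⟨ψ', h'⟩ := s.ch _ (h.pt_mem u)
  obtain ⟨ξ, e⟩ := h'.ex hx.1 (h.pt_cm u).symm
  obtain ⟨y, o⟩ := B_one (u := ξ) fun o => n 0 0 (by simpa using h.pt_inj (u := u) (v := 0) (by rw [pt_zero]; exact (e.trans (o ▸ pt_zero)).symm))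
  exact ⟨_, s.cp_adj ha (s.cp_adj ha hx (h.pt_mem u) (h.pt_cm u)) (h'.pt_mem y) (h'.pt_cm y), fun k => one_ne_zero (o.symm.trans (h'.pt_comm.1 (by rw [← e]; exact k.symm)))⟩

/-- `B_one` in a chart at `x`. -/
theorem sep (hx : x ∈ D) (hy : y ∈ D) (hne : x ≠ y) (h : Commute x y) : ∃ p ∈ D, Commute p x ∧ ¬ Commute p y := by
  obtain ⟨ψ, k⟩ := s.ch x hx
  obtain ⟨η, rfl⟩ := k.ex hy h
  obtain ⟨p, o⟩ := B_one (u := η) fun o => hne (by rw [o, pt_zero])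
  exact ⟨_, k.pt_mem p, (k.pt_cm p).symm, fun e => one_ne_zero (o.symm.trans (k.pt_comm.1 e))⟩

/-- `ch3` for `d`, `d z`, `d'`; `Ch.la`. -/
theorem uniq (hz : z ≠ 1) {d' : G} (hd : d ∈ La D z) (hd' : d' ∈ La D z) (h : d' ∈ Cp D d) : Commute d d' := by
  have j : Commute d (d * z) := (Commute.refl d).mul_right hd.2.1
  obtain ⟨c, -, ψ, k, u, v, w, rfl, e, rfl⟩ := s.ch3 hd.1 (cp_self hd.1) (cp_cm hd.2.2 j) h
  have f : z = pt ψ c u * pt ψ c v := by rw [← e, ← mul_assoc, k.pt_sq, one_mul]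
  have o := k.pt_comm.1 (e ▸ j :)
  obtain ⟨l, rfl⟩ := k.la o (fun o => hz (by rw [f, o, k.pt_sq])) (f ▸ hd')
  exact k.pt_comm.2 (by bsp; simp [o])

end Dl

end Cfsg.Lib.SPD
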