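import Cfsg.Agent.Lib.SPD.Wb
import Cfsg.Agent.Lib.Orth.Class
import Cfsg.Agent.Lib.Orth.Simple
import Cfsg.Agent.Lib.Orth.Sum
import Cfsg.Agent.Lib.Transfer.Fusion
import Cfsg.Agent.Lib.Linear.FieldAut

/-!
# S3129, case `δ`: the action of `NX` on the quadratic space.  `X = Cp D a`.
-/

set_option autoImplicit false
set_option linter.unusedSectionVars false

namespace Cfsg.Lib.SPD

open Subgroup QuadraticMap Cfsg.Lib.BG
open scoped Matrix commutatorElement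

variable {k : ℕ} {F G : Type*} [Field F] [Finite F] [CharP F 2] [Group G] [Finite G] {D : Set G} {a c g x y : G}
  {W : Type*} [AddCommGroup W] [Module F W] {Q : QuadraticForm F W} {ι : G → W}

/-- The elements that act linearly. -/
def NL (D : Set G) (a : G) (Q : QuadraticForm F W) (ι : G → W) : Subgroup G where
  carrier := {g | g ∈ NX D a ∧ ∀ x ∈ Cp D a, ∀ y ∈ Cp D a, polar Q (ι (g * x * g⁻¹)) (ι (g * y * g⁻¹)) = polar Q (ι x) (ι y)}
  mul_mem' {g h} hg hh := ⟨mul_mem hg.1 hh.1, fun x hx y hy => by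
    rw [← hh.2 x hx y hy, ← hg.2 _ (nx_cj hh.1 hx) _ (nx_cj hh.1 hy)]; simp only [mul_assoc, mul_inv_rev]⟩
  one_mem' := ⟨one_mem _, fun x _ y _ => by simp⟩
  inv_mem' {g} hg := ⟨inv_mem hg.1, fun x hx y hy => by
    rw [← hg.2 _ (nx_cj (inv_mem hg.1) hx) _ (nx_cj (inv_mem hg.1) hy)]; simp [mul_assoc]⟩

theorem CX_le_NL : CX D a ≤ NL D a Q ι := fun _ hg => ⟨CX_le_NX hg, fun x hx y hy => by
  rw [(mem_CX.1 hg x hx).eq, (mem_CX.1 hg y hy).eq, mul_inv_cancel_right, mul_inv_cancel_right]⟩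

/-- The linear action. -/
def Rh (D : Set G) (a : G) (Q : QuadraticForm F W) (ι : G → W) (ρ : NL D a Q ι →* Orth.O Q) : Prop :=
  ∀ g : NL D a Q ι, ∀ x ∈ Cp D a, (ρ g).1 (ι x) = ι (g * x * (g : G)⁻¹)

theorem Md.fin (h : Md k D a Q ι) : FiniteDimensional F W := .of_finrank_pos (by rw [h.dim]; omega)

theorem Md.m0 (h : Md k D a Q ι) : M0 D a (fun x y => polar Q (ι x) (ι y)) Q ι := ⟨fun _ _ _ _ => rfl, h.sp⟩

/-- `M0.span`. -/
theorem Md.ext (h : Md k D a Q ι) {f f' : W →ₗ[F] W} (e : ∀ x ∈ Cp D a, f (ι x) = f' (ι x)) : f = f' := have := h.fin; LinearMap.ext_on h.m0.span (Set.forall_mem_image.2 e)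

theorem Md.extO (h : Md k D a Q ι) {T T' : Orth.O Q} (e : ∀ x ∈ Cp D a, T.1 (ι x) = T'.1 (ι x)) : T = T' :=
  Orth.O.ext (LinearMap.congr_fun (h.ext (f := T.1.toLinearMap) (f' := T'.1.toLinearMap) e))

theorem Md.exc (h : Md k D a Q ι) (hk : 3 ≤ k) : ¬ Orth.Exc Q := Orth.not_exc_of_five_le (by rw [h.dim]; omega)

theorem Md.sig (h : Md k D a Q ι) (hg : g ∈ NX D a) :
    ∃ σ : F ≃+* F, ∀ x ∈ Cp D a, ∀ y ∈ Cp D a, polar Q (ι (g * x * g⁻¹)) (ι (g * y * g⁻¹)) = σ (polar Q (ι x) (ι y)) :=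
  let ⟨σ, _, _, p, q⟩ := h.sl g hg; ⟨σ, fun x hx y hy => by rw [← p x hx, ← p y hy, q]⟩

namespace Dl

variable (s : Dl k F D) (ha : a ∈ D) (h : Md k D a Q ι)
include s ha h


/-- `Md.ch` at `a`, `B_one`. -/
theorem val (r : F) : ∃ x ∈ D, ∃ y ∈ D, Commute a x ∧ Commute a y ∧ polar Q (ι x) (ι y) = r := by
  obtain ⟨ψ, c, p, -⟩ := h.ch a (cp_self ha)
  obtain ⟨u, v, e, -⟩ := hyp3 (F := F) s.hk (x := 0) (y := 0) (.inr rfl)
  exact ⟨_, c.pt_mem (r • u), _, c.pt_mem v, c.pt_cm _, c.pt_cm _, by rw [p, smul_B, e, mul_one]⟩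

theorem mem_NL (hx : x ∈ Cp D a) : x ∈ NL D a Q ι := ⟨s.mem_NX ha hx, fun y hy z hz => by
  rw [s.inv hx.1, h.cj x hx y hy, h.cj x hx z hz]
  simp only [polar_add_left, polar_add_right, polar_smul_left, polar_smul_right, smul_eq_mul, (h.cm x hx x hx).1 (.refl x), polar_comm Q (ι y) (ι x)]
  linear_combination polar Q (ι x) (ι y) * polar Q (ι x) (ι z) * CharTwo.two_eq_zero (R := F)⟩

theorem M_le_NL : Mg D a ≤ NL D a Q ι := (closure_le _).2 fun _ ⟨_, hx, _, hy, e⟩ => e ▸ mul_mem (s.mem_NL ha h hx) (s.mem_NL ha h hy)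

/-- `Md.sl`: `σ = 1` by `val`, so `f` is linear; `Q (f v) = Q v` by span induction; `O.ofLinear`; see `S6.tyO_par`. -/
theorem ex_rh : ∃ ρ, Rh D a Q ι ρ := by
  have := h.fin
  have ex (g : NL D a Q ι) : ∃ T : Orth.O Q, ∀ x ∈ Cp D a, T.1 (ι x) = ι (g * x * (g : G)⁻¹) := by
    obtain ⟨σ, f, f1, f2, f3⟩ := h.sl g g.2.1
    have e : ∀ r, σ r = r := fun r => by
      obtain ⟨x, hx, y, hy, cx, cy, rfl⟩ := s.val ha h r
      rw [← f3, f2 x (cp_cm hx cx), f2 y (cp_cm hy cy), g.2.2 x (cp_cm hx cx) y (cp_cm hy cy)]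
    refine ⟨Orth.O.ofLinear h.nd { f with map_smul' := fun c w => (f1 c w).trans (by rw [e]; rfl) } fun v => ?_, f2⟩
    change Q (f v) = Q v
    induction h.m0.span.ge (Submodule.mem_top (x := v)) using Submodule.span_induction with
    | mem _ i => obtain ⟨x, hx, rfl⟩ := i; rw [f2 x hx, h.one x hx, h.one _ (nx_cj g.2.1 hx)]
    | zero => rw [map_zero]
    | add u v _ _ p q => rw [map_add, Orth.Q_add, Orth.Q_add, p, q, f3, e]
    | smul c u _ p => rw [f1, e, Orth.Q_smul, Orth.Q_smul, p]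
  choose ρ hρ using ex
  exact ⟨.mk' ρ fun g k => h.extO fun x hx => by
    rw [hρ _ x hx, Orth.O.mul_apply, hρ _ x hx, hρ _ _ (nx_cj k.2.1 hx)]; simp [mul_assoc], hρ⟩

/-- `σ` of `Md.sl` is unique (`val`), so multiplicative. -/
theorem ex_sig : ∃ θ : NX D a →* (F ≃+* F), ∀ g, θ g = 1 → (g : G) ∈ NL D a Q ι := by
  choose θ hθ using fun g : NX D a => h.sig g.2
  refine ⟨.mk' θ fun g k => RingEquiv.ext fun r => ?_, fun g e => ⟨g.2, fun x hx y hy => (hθ g x hx y hy).trans (DFunLike.congr_fun e _)⟩⟩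
  obtain ⟨x, hx, y, hy, cx, cy, rfl⟩ := s.val ha h r
  have hx := cp_cm hx cx
  have hy := cp_cm hy cy
  rw [← hθ _ x hx y hy, RingAut.mul_apply, ← hθ _ x hx y hy, ← hθ _ _ (nx_cj k.2 hx) _ (nx_cj k.2 hy)]
  simp [mul_assoc]

/-- `σ`, `f` from `Md.sl`; `x' = g a g ∼ a`, `x' ≠ a` (`fp_comm`), `u = ι a + ι x' ≠ 0`, `p l = ι a + l • u` has norm `1`, so is a point (`sur`), and `f (p l) = p (1 + σ l)`.
`g² = 1` gives `σ (σ l) = l`.  If `σ l₀ ≠ l₀` then `l = l₀ / (l₀ + σ l₀)` has `1 + σ l = l`, so `g` fixes the point `p l` (`inj`), against `Fp.nc`. -/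
theorem fp_NL (hg : Fp D a g) : g ∈ NL D a Q ι := by
  obtain ⟨σ, f, f1, f2, f3⟩ := h.sl g hg.nx
  have a1 := cp_self ha
  have a2 := nx_cj hg.nx a1
  have gi : g⁻¹ = g := inv_eq_of_mul_eq_one_left hg.sq
  have gg : ∀ x, g * (g * x * g⁻¹) * g⁻¹ = x := fun x => by rw [← mul_assoc, ← mul_assoc, hg.sq, one_mul, mul_assoc, gi, hg.sq, mul_one]
  have e : ∀ r, σ r = r := fun r => by_contra fun n => by
    have n : r + σ r ≠ 0 := fun z => n (CharTwo.add_eq_zero.1 z).symm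
    have e2 : σ (σ r) = r := by
      obtain ⟨x, hx, y, hy, cx, cy, rfl⟩ := s.val ha h r
      rw [← f3, ← f3, f2 x (cp_cm hx cx), f2 y (cp_cm hy cy), f2 _ (nx_cj hg.nx (cp_cm hx cx)), f2 _ (nx_cj hg.nx (cp_cm hy cy)), gg, gg]
    have p := (h.cm _ a1 _ a2).1 (by rw [gi]; exact s.fp_comm ha hg a1)
    obtain ⟨y, hy, e⟩ := h.sur (ι a + (r / (r + σ r)) • (ι a + ι (g * a * g⁻¹))) (by
      rw [Orth.Q_add, Orth.Q_smul, Orth.Q_add, polar_smul_right, polar_add_right, p, (h.cm _ a1 _ a1).1 (.refl a), h.one _ a1, h.one _ a2, CharTwo.add_self_eq_zero]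
      simp)
    refine hg.nc y hy (mul_inv_eq_iff_eq_mul.1 (h.inj _ (nx_cj hg.nx hy) _ hy ?_))
    rw [← f2 y hy, e, map_add, f1, map_add, f2 _ a1, f2 _ a2, gg, show σ (r / (r + σ r)) = 1 + r / (r + σ r) by
      rw [map_div₀, map_add, e2, add_comm (σ r)]; field_simp; linear_combination (-r) * CharTwo.two_eq_zero (R := F), add_smul, one_smul, ← add_assoc, ← add_assoc, v2 (F := F),
      zero_add, add_comm (ι (g * a * g⁻¹))]
  exact ⟨hg.nx, fun x hx y hy => by rw [← f2 x hx, ← f2 y hy, f3, e]⟩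

variable {ρ : NL D a Q ι →* Orth.O Q} (hρ : Rh D a Q ι ρ)
include hρ

theorem rh_refl {x : NL D a Q ι} (hx : (x : G) ∈ Cp D a) : ρ x = Orth.refl Q (ι x) := h.extO fun y hy => by
  rw [hρ x y hy, s.inv hx.1, h.cj _ hx y hy, Orth.refl_apply, h.one _ hx, inv_one, one_mul, eq_sub_iff_add_eq, add_assoc, v2 (F := F), add_zero]

theorem dick1 [FiniteDimensional F W] (hx : x ∈ Cp D a) : Orth.dickson h.nd (ρ ⟨x, s.mem_NL ha h hx⟩) = -1 := by
  rw [s.rh_refl ha h hρ hx, Orth.dickson_refl h.nd (by rw [h.one x hx]; exact one_ne_zero)]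
theorem rh_ker {g : NL D a Q ι} : ρ g = 1 ↔ (g : G) ∈ CX D a := ⟨fun e => mem_CX.2 fun x hx => mul_inv_eq_iff_eq_mul.1 (h.inj _ (nx_cj g.2.1 hx) _ hx (by rw [← hρ g x hx, e]; rfl)),
    fun e => h.extO fun x hx => by rw [hρ g x hx, (mem_CX.1 e x hx).eq, mul_inv_cancel_right]; rfl⟩

/-- `eq_top_of_refl_mem` (`not_exc_of_five_le`): a vector `v` with `Q v ≠ 0` is `r • ι x` (`sqrt`, `sur`), `refl_smul`. -/
theorem rh_sur (o : Orth.O Q) : ∃ g : NL D a Q ι, (g : G) ∈ closure (Cp D a) ∧ ρ g = o := by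
  have := h.fin
  refine (Orth.eq_top_of_refl_mem h.nd (h.exc s.hk) (K := ((closure (Cp D a)).subgroupOf _).map ρ) fun v hv => ?_).ge (mem_top o)
  obtain ⟨r, e⟩ := sqrt (Q v)
  have r0 : r ≠ 0 := fun z => hv (by rw [← e, z]; simp)
  obtain ⟨x, hx, f⟩ := h.sur (r⁻¹ • v) (by rw [Orth.Q_smul, ← e]; field_simp)
  exact ⟨⟨x, s.mem_NL ha h hx⟩, subset_closure hx, by rw [s.rh_refl ha h hρ hx, f, Orth.refl_smul (inv_ne_zero r0)]⟩

/-- `dickson_refl`. -/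
theorem rh_dick [FiniteDimensional F W] {g : NL D a Q ι} (hg : (g : G) ∈ Mg D a ⊔ CX D a) : Orth.dickson h.nd (ρ g) = 1 := (mem_map_iff_mem Subtype.val_injective).1
  (sup_le (c := ((Orth.dickson h.nd).comp ρ).ker.map (NL D a Q ι).subtype) ((closure_le (k := {g | ∃ x ∈ Cp D a, ∃ y ∈ Cp D a, g = x * y}) _).2 fun _ ⟨x, hx, y, hy, e⟩ =>
    ⟨⟨x, s.mem_NL ha h hx⟩ * ⟨y, s.mem_NL ha h hy⟩, show Orth.dickson h.nd (ρ _) = 1 by rw [map_mul, map_mul, s.dick1 ha h hρ hx, s.dick1 ha h hρ hy]; simp, e.symm⟩)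
    (fun x hx => ⟨⟨x, CX_le_NL hx⟩, show Orth.dickson h.nd (ρ _) = 1 by rw [(s.rh_ker ha h hρ).2 hx, map_one], rfl⟩) hg)

omit hρ

theorem NL_eq (hg : g ∈ NL D a Q ι) : ∃ y ∈ closure (Cp D a), ∃ o ∈ CX D a, g = y * o := by
  obtain ⟨ρ, hρ⟩ := s.ex_rh ha h
  obtain ⟨y, hy, e⟩ := s.rh_sur ha h hρ (ρ ⟨g, hg⟩)
  exact ⟨y, hy, _, (s.rh_ker ha h hρ (g := y⁻¹ * ⟨g, hg⟩)).1 (by simp [e]), by simp⟩

/-- `g ∈ NL` (`val`).  `x₀` with `polar (ι a) (ι x₀) = 1`.  `ρ g` fixes the `ι y`, `y ∼ a`.  A vector `w` orthogonal to all these is a multiple of `ι a`: `w + r • ι a` is also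
orthogonal to `ι x₀`, use `fl`, `po_lh` (`Md.ch` is a `Bt` for `β = polar`) and `sp`.  So `ρ g (ι x₀) = ι x₀ + r • ι a`, `1 = 1 + r + r²`.  If `r = 0` then `ρ g = 1`
(`fl` for `ρ g (ι y) + ι y`, `ι_lh`); if `r = 1` the same for `g a`. -/
theorem k0x' (hg : ∀ y ∈ D, Commute a y → Commute g y) : g ∈ CX D a ∨ g * a ∈ CX D a := by
  obtain ⟨ρ, hρ⟩ := s.ex_rh ha h
  have a1 := cp_self ha
  have n := s.nx_cm ha a1 (hg a ha (.refl a))
  have hg : ∀ y ∈ D, Commute a y → g * y * g⁻¹ = y := fun y i j => mul_inv_eq_iff_eq_mul.2 (hg y i j)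
  have n : g ∈ NL D a Q ι := ⟨n, fun x hx y hy => by
    obtain ⟨σ, e⟩ := h.sig n
    obtain ⟨x', hx', y', hy', cx, cy, f⟩ := s.val ha h (polar Q (ι x) (ι y))
    rw [e x hx y hy, ← f, ← e _ (cp_cm hx' cx) _ (cp_cm hy' cy), hg _ hx' cx, hg _ hy' cy]⟩
  have hβ : Bt k D a fun x y => polar Q (ι x) (ι y) := fun c hc => let ⟨ψ, p, q, _⟩ := h.ch c hc; ⟨ψ, p, q⟩
  obtain ⟨x, hx, e⟩ := s.β_one ha hβ a1
  have nc : ¬ Commute x a := fun c => zero_ne_one (((h.cm _ a1 _ hx).1 c.symm).symm.trans e)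
  have fx : ∀ T : Orth.O Q, (∀ y ∈ D, Commute y a → T.1 (ι y) = ι y) → T.1 (ι x) = ι x → T = 1 := fun T p q => h.extO fun y hy =>
    sub_eq_zero.1 (s.fl ha hβ ((s.ι_lh ha hβ h.m0).map (T.1.toLinearMap - .id)) a1 hx nc (fun y i j => sub_eq_zero.2 (p y i j)) (sub_eq_zero.2 q) hy)
  have p : ∀ y ∈ D, Commute y a → (ρ ⟨g, n⟩).1 (ι y) = ι y := fun y i j => by rw [hρ _ y (cp_cm i j.symm), hg y i j.symm]
  obtain ⟨r, q⟩ : ∃ r : F, (ρ ⟨g, n⟩).1 (ι x) = ι x + r • ι a := ⟨polar Q (ι x) ((ρ ⟨g, n⟩).1 (ι x)), sub_eq_zero.1 (h.sp _ fun y hy =>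
    s.fl ha hβ (s.po_lh ha hβ h.m0 _) a1 hx nc (fun y i j => by
      rw [polar_sub_right, polar_add_right, polar_smul_right, (h.cm _ (cp_cm i j.symm) _ a1).1 j, ← p y i j, Orth.O.map_polar, p y i j]; simp) (by
      rw [polar_sub_right, polar_add_right, polar_smul_right, polar_comm Q (ι x) (ι a), e, (h.cm _ hx _ hx).1 (.refl x)]; simp) hy)⟩
  have := Orth.O.map_Q (ρ ⟨g, n⟩) (ι x)
  rw [q, Orth.Q_add, Orth.Q_smul, polar_smul_right, polar_comm, e, h.one _ a1] at this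
  obtain r0 | r1 : r = 0 ∨ r + 1 = 0 := mul_eq_zero.1 (by rw [smul_eq_mul] at this; linear_combination this)
  · exact .inl ((s.rh_ker ha h hρ).1 (fx _ p (by simp [q, r0])))
  · refine .inr ((s.rh_ker ha h hρ (g := ⟨g, n⟩ * ⟨a, s.mem_NL ha h a1⟩)).1 (fx _ (fun y i j => ?_) ?_))
    · rw [map_mul, Orth.O.mul_apply, hρ _ y (cp_cm i j.symm), ← j.eq, mul_inv_cancel_right, p y i j]
    · rw [map_mul, Orth.O.mul_apply, hρ _ x hx, s.inv ha, h.cj _ a1 _ hx, e, one_smul, map_add, q, p a ha (.refl a), add_assoc, ← one_smul F (ι a), smul_smul,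
        ← add_smul, mul_one, r1, zero_smul, add_zero]

theorem not_mem' : a ∉ Mg D a ⊔ CX D a := fun e => by
  have := h.fin
  obtain ⟨ρ, hρ⟩ := s.ex_rh ha h
  exact absurd ((s.dick1 ha h hρ (cp_self ha)).symm.trans (s.rh_dick ha h hρ (g := ⟨a, s.mem_NL ha h (cp_self ha)⟩) e)) (by decide)

/-- `K = Mg ⊔ CX` is normal in `NX`; `NL ≤ K ∪ K a` (`NL_eq`, `mem_cl`); the image of `a` in `NX / K` is central.  `θ` of `ex_sig` has cyclic range:
`commutative_of_cyclic_center_quotient` for `NX / K`, or directly: `g = g₀ ^ i * n` with `n ∈ NL`. -/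
theorem comm_le' : ⁅NX D a, NX D a⁆ ≤ Mg D a ⊔ CX D a := by
  obtain ⟨θ, hθ⟩ := s.ex_sig ha h
  have N : NX D a ≤ 𝐍(Mg D a ⊔ CX D a) := (le_inf NX_le_NM NX_le_NC).trans (normalizer_inf_normalizer_le_normalizer_sup _ _)
  have := (normal_subgroupOf_iff_le_normalizer (sup_le (s.M_le_NX ha) CX_le_NX)).2 N
  let π := QuotientGroup.mk' ((Mg D a ⊔ CX D a).subgroupOf (NX D a))
  have k : ∀ g, π g = 1 ↔ (g : G) ∈ Mg D a ⊔ CX D a := fun g => QuotientGroup.eq_one_iff g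
  have c : ∀ n g, θ n = 1 → Commute (π n) (π g) := fun n g e => by
    obtain ⟨y, hy, o, ho, f⟩ := s.NL_eq ha h (hθ n e)
    obtain i | i := s.mem_cl ha hy
    · rw [(k n).2 (f ▸ mul_mem_sup i ho)]; exact .one_left _
    · have : π (n * ⟨a, s.mem_NX ha (cp_self ha)⟩) = 1 := (k _).2 (by
        rw [coe_mul, f, mul_assoc, (mem_CX.1 ho a (cp_self ha)).eq, ← mul_assoc]; exact mul_mem_sup i ho)
      rw [eq_inv_of_mul_eq_one_left (map_mul π _ _ ▸ this :)]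
      refine (commutatorElement_eq_one_iff_commute.1 (map_commutatorElement π _ _ ▸ (k _).2 (mem_sup_left ?_) :)).symm.inv_left
      exact mul_Mg (y := a⁻¹) (nx_cj g.2 (cp_self ha)) ((s.inv ha).symm ▸ cp_self ha)
  obtain ⟨⟨_, g, rfl⟩, hg⟩ := IsCyclic.exists_generator (α := θ.range)
  have d : ∀ x, ∃ i : ℤ, θ ((g ^ i)⁻¹ * x) = 1 := fun x => (hg ⟨θ x, x, rfl⟩).imp fun i e => by
    rw [map_mul, map_inv, map_zpow, inv_mul_eq_one]; exact congrArg Subtype.val e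
  refine commutator_le.2 fun x hx y hy => (k ⁅(⟨x, hx⟩ : NX D a), ⟨y, hy⟩⁆).1 ?_
  obtain ⟨i, p⟩ := d ⟨x, hx⟩
  obtain ⟨j, q⟩ := d ⟨y, hy⟩
  rw [map_commutatorElement, commutatorElement_eq_one_iff_commute, ← mul_inv_cancel_left (g ^ i) ⟨x, hx⟩, map_mul]
  refine .mul_left ?_ (c _ _ p)
  rw [← mul_inv_cancel_left (g ^ j) ⟨y, hy⟩, map_mul]
  exact .mul_right ((Commute.zpow_zpow_self g i j).map π) (c _ _ q).symm

/-- `ρ` is injective on `Mg` (the kernel is normal and lies in `CX`, of odd order (`cX_odd`); `Mg` contains an involution); the image is `ker dickson = commutator (O Q)`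
(`rh_sur`, `mem_cl`, `rh_dick`, `commutator_eq_ker_dickson`). -/
theorem iso' (hs : IsSimpleGroup (Mg D a)) : Nonempty (Mg D a ≃* commutator (Orth.O Q)) := by
  have := h.fin
  obtain ⟨ρ, hρ⟩ := s.ex_rh ha h
  have a1 := cp_self ha
  have i : (ρ.comp (inclusion (s.M_le_NL ha h))).ker = ⊥ := (hs.eq_bot_or_eq_top_of_normal _ inferInstance).resolve_right fun e => by
    obtain ⟨y, hy, n⟩ := s.nadj ha a1
    have := mem_CX.1 ((s.rh_ker ha h hρ).1 (e.ge (mem_top ⟨_, mul_Mg a1 hy⟩))) a a1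
    exact n (by simpa using ((Commute.refl a).inv_left.mul_left this).symm)
  refine ⟨(MonoidHom.ofInjective ((MonoidHom.ker_eq_bot_iff _).1 i)).trans (.subgroupCongr ?_)⟩
  rw [Orth.commutator_eq_ker_dickson h.nd (h.exc s.hk) CharTwo.two_eq_zero]
  refine le_antisymm (fun _ ⟨g, e⟩ => e ▸ s.rh_dick ha h hρ (mem_sup_left g.2)) fun o ho => ?_
  obtain ⟨g, hg, rfl⟩ := s.rh_sur ha h hρ o
  obtain j | j := s.mem_cl ha hg
  · exact ⟨⟨g, j⟩, rfl⟩
  · have := s.rh_dick ha h hρ (g := g * ⟨a, s.mem_NL ha h a1⟩) (mem_sup_left j)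
    rw [map_mul, map_mul, MonoidHom.mem_ker.1 ho, s.dick1 ha h hρ a1] at this
    exact absurd this (by decide)

omit h

theorem k0x (hg : ∀ y ∈ D, Commute a y → Commute g y) : g ∈ CX D a ∨ g * a ∈ CX D a := by
  obtain ⟨Q, ι, h⟩ := s.exists_md ha
  exact s.k0x' ha h hg

/-- `fp_NL`, `NL_eq`: `g = y o`, `o` of odd order `n` commutes with `y`, `g = g ^ n = y ^ n`; `mem_cl`. -/
theorem fp_mem (hg : Fp D a g) : g ∈ Mg D a ∨ g * a ∈ Mg D a := by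
  obtain ⟨Q, ι, h⟩ := s.exists_md ha
  obtain ⟨y, hy, o, ho, e⟩ := s.NL_eq ha h (s.fp_NL ha h hg)
  obtain ⟨n, hn⟩ := s.cX_odd ha
  have c : Commute y o := mem_centralizer_iff.1 ((centralizer_closure (Cp D a)).ge ho) y hy
  have := pow_mem hy (Nat.card (CX D a))
  rw [← mul_one (y ^ _), ← orderOf_dvd_iff_pow_eq_one.1 (orderOf_dvd_natCard _ ho), ← c.mul_pow, ← e, hn, pow_succ, pow_mul, pow_two, hg.sq, one_pow, one_mul] at this
  exact s.mem_cl ha this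

/-- `P ∋ a` Sylow, `P ≤ NX` (`p2`), `Transfer.not_mem_pResidual_sup_commutator_of_conj_mem_coset` with `K = Mg ⊔ CX`; `of_mem`. -/
theorem out : a ∉ commutator G := by
  obtain ⟨Q, ι, h⟩ := s.exists_md ha
  have a2 : a ^ 2 = 1 := (_root_.sq a).trans (s.sq ha)
  obtain ⟨P, hP⟩ := (IsPGroup.of_card (n := 1) (by rw [Nat.card_zpowers, orderOf_eq_prime a2 (s.ne_one ha), pow_one]) : IsPGroup 2 (zpowers a)).exists_le_sylow
  have p := s.p2 P.2 ha (hP (mem_zpowers a))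
  exact fun e => Transfer.not_mem_pResidual_sup_commutator_of_conj_mem_coset P ((commutator_mono p p).trans (s.comm_le' ha h)) (hP (mem_zpowers a))
    (s.not_mem' ha h) a2 (fun g i => mem_sup_left (mul_Mg (s.of_mem ha (s.cj a ha g) (p i)) ((s.inv ha).symm ▸ cp_self ha))) (mem_sup_right e)

/-- As `S6.tyO_iso`: `O.congrI`, `pomegaEquiv`, trivial centre (`mem_center_commutator_iff`, `neg_eq_one_of_two_eq_zero`), `wittIndex_eq_or`, `equivalent_qPlus`,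
`equivalent_qMinus`, `exists_aniso_one`. -/
theorem iso (hs : IsSimpleGroup (Mg D a)) : Nonempty (Mg D a ≃* POmega F (quadFormPlus (k + 1) F)) ∨
    ∃ a' b' : F, (∀ z₁ z₂ : F, z₁ ^ 2 + a' * z₁ * z₂ + b' * z₂ ^ 2 = 0 → z₁ = 0 ∧ z₂ = 0) ∧ Nonempty (Mg D a ≃* POmega F (quadFormMinus k F a' b')) := by
  obtain ⟨Q, ι, h⟩ := s.exists_md ha
  obtain ⟨e⟩ := s.iso' ha h hs
  have := h.fin
  have hk := s.hk
  have Z : center (commutator (Orth.O Q)) = ⊥ := eq_bot_iff.2 fun g hg => by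
    rw [Orth.mem_center_commutator_iff h.nd (h.exc hk) (by rw [h.dim]; omega), Orth.neg_eq_one_of_two_eq_zero CharTwo.two_eq_zero] at hg
    simpa using hg
  have P {κ : Type} [Fintype κ] [DecidableEq κ] {Q' : QuadraticForm F (κ → F)} (f : Q.Equivalent Q') : Nonempty (Mg D a ≃* POmega F Q') := let ⟨f⟩ := f
    ⟨e.trans ((((QuotientGroup.quotientMulEquivOfEq Z).trans QuotientGroup.quotientBot).symm.trans
      (Orth.pcomCongr (Orth.O.congrI f.toLinearEquiv f.map_app))).trans (Orth.pomegaEquiv Q').symm)⟩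
  obtain w | w := Orth.wittIndex_eq_or h.nd h.dim
  · exact .inl (P (Orth.equivalent_qPlus h.nd h.dim w.ge))
  · obtain ⟨ζ, z⟩ := Orth.exists_aniso_one F
    exact .inr ⟨1, ζ, z, P (Orth.equivalent_qMinus h.nd (m := k) h.dim (by omega) z)⟩

end Dl

end Cfsg.Lib.SPD
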