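import Cfsg.Agent.Lib.SPD.Gb

/-!
# S3129, case `δ`: from an embedding `ι` with `polar = β` to the model `Md`.
-/

set_option autoImplicit false
set_option linter.unusedSectionVars false

namespace Cfsg.Lib.SPD

open Subgroup QuadraticMap
open scoped Matrix

variable {k : ℕ} {F G : Type*} [Field F] [Finite F] [CharP F 2] [Group G] [Finite G] {D : Set G} {ψ : J k F →* G}
  {a c e g x y z : G} {u v : V k F} {l m r : F} {β : G → G → F} {W : Type*} [AddCommGroup W] [Module F W] {Q : QuadraticForm F W} {ι : G → W} {w : W}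

/-- An embedding of the component. -/
structure M0 (D : Set G) (a : G) (β : G → G → F) (Q : QuadraticForm F W) (ι : G → W) : Prop where
  po : ∀ x ∈ Cp D a, ∀ y ∈ Cp D a, polar Q (ι x) (ι y) = β x y
  sp : ∀ w, (∀ x ∈ Cp D a, polar Q (ι x) w = 0) → w = 0

theorem M0.ext (h : M0 D a β Q ι) {w w' : W} (e : ∀ x ∈ Cp D a, polar Q (ι x) w = polar Q (ι x) w') : w = w' := sub_eq_zero.1 (h.sp _ fun x hx => by rw [polar_sub_right, e x hx, sub_self])

theorem M0.nd (h : M0 D a β Q ι) : Orth.ND Q := (Orth.nd_iff Q).2 fun w e => h.sp w fun x _ => by rw [polar_comm, e]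

/-- `Orth.perp_perp`, `Orth.mem_perp_span`. -/
theorem M0.span [FiniteDimensional F W] (h : M0 D a β Q ι) : Submodule.span F (ι '' Cp D a) = ⊤ := by
  rw [← Orth.perp_perp h.nd (Submodule.span F _), (eq_bot_iff.2 fun w m => h.sp w fun x hx => Orth.mem_perp_span.1 m _ (Set.mem_image_of_mem ι hx) : Orth.perp Q _ = ⊥), Orth.perp_bot]

namespace Dl

variable (s : Dl k F D) (ha : a ∈ D) (hβ : Bt k D a β) (h : M0 D a β Q ι)
include s ha hβ h

/-- `M0.ext`, `β_lh`. -/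
theorem ι_lh : Lh k D a β ι := fun c hc ψ g => by
  have P := fun x hx v => h.po x hx _ (s.pt_cp ha hc g.1 v)
  exact ⟨fun l v => h.ext fun x hx => by
      rw [polar_add_right, polar_smul_right, polar_smul_right, P x hx, P x hx, h.po x hx c hc]; exact (s.β_lh ha hβ hx c hc ψ g).1 l v,
    fun r u v e => h.ext fun x hx => by
      rw [polar_add_right, polar_add_right, polar_smul_right, P x hx, P x hx, P x hx, h.po x hx c hc]; exact (s.β_lh ha hβ hx c hc ψ g).2 r u v e⟩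

/-- `Lh.map` with `polarBilin`. -/
theorem po_lh (w : W) : Lh k D a β fun x => polar Q (ι x) w := (s.ι_lh ha hβ h).map ((polarBilin Q).flip w)

theorem ι_cj (hx : x ∈ Cp D a) (hy : y ∈ Cp D a) : ι (x * y * x) = ι y + polar Q (ι x) (ι y) • ι x := h.ext fun z hz => by
  rw [polar_add_right, Orth.polar_smul_right', h.po z hz _ (s.cj_mem ha hx hy), h.po z hz y hy, h.po x hx y hy, h.po z hz x hx, s.β_cj ha hβ hx hy hz, s.β_symm ha hβ hx hy]

/-- `β x y = β y y = 0`; in a chart at `x`, `y = pt η` and `B v η = β (pt v) y = β (pt v) x = 0`. -/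
theorem ι_inj (hx : x ∈ Cp D a) (hy : y ∈ Cp D a) (e : ι x = ι y) : x = y := by
  obtain ⟨ψ, g⟩ := hβ x hx
  obtain ⟨η, rfl⟩ := g.1.ex hy.1 ((s.β_zero ha hβ hx hy).1 (by rw [← h.po x hx _ hy, e, h.po _ hy _ hy, s.β_zero ha hβ hy hy]))
  rw [B_nd (u := η) fun v => ?_, pt_zero]
  have m := s.pt_cp ha hx g.1 v
  rw [← g.2, ← h.po _ m _ hy, ← e, h.po _ m x hx, s.β_zero ha hβ m hx]; exact (g.1.pt_cm v).symm

theorem ι_ln (hc : c ∈ Cp D a) (h1 : Gc D β ψ c) (l : F) (h0 : B u v = 0) :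
    ι (pt ψ c (u + l • v)) = ι (pt ψ c u) + l • (ι c + ι (pt ψ c v)) := by
  have L := s.ι_lh ha hβ h c hc ψ h1
  rw [L.2 0 u _ (by rw [B_smul, h0, mul_zero, zero_pow two_ne_zero]), L.1, ← add_zero (ι _ + l • _), ← v2 (F := F) (ι c)]; module

/-- `c ∼ a, e, y`.  In a chart at `c`, `n v = Q (ι (pt v)) + 1` satisfies `n (l • v) = l² n v`, `n (u + v) = n u + n v` (`ι_lh`, `Q (ι c) = 1`); `a = pt α`, `e = pt ε`,
`B ε α ≠ 0`; `n` vanishes on `α^⊥` and at `ε`. -/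
theorem ι_one (he : e ∈ Cp D a) (hn : ¬ Commute e a) (h1 : ∀ y ∈ D, Commute y a → Q (ι y) = 1) (h2 : Q (ι e) = 1) (hy : y ∈ Cp D a) : Q (ι y) = 1 := by
  obtain ⟨c, hc, ψ, g, α, ε, η, ea, rfl, rfl⟩ := s.gc3 ha hβ (cp_self ha) he hy
  have L := s.ι_lh ha hβ h c hc ψ g
  have U := s.pt_cp ha hc g.1
  have c1 := h1 c hc.1 (ea ▸ g.1.pt_cm α :)
  have c0 : ∀ v, polar Q (ι c) (ι (pt ψ c v)) = 0 := fun v => by rw [h.po c hc _ (U v), s.β_zero ha hβ hc (U v)]; exact g.1.pt_cm v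
  have n : B ε α ≠ 0 := fun f => hn (ea ▸ g.1.pt_comm.2 f :)
  obtain ⟨r, f⟩ := sqrt (B η ((B η α / B ε α) • ε))
  have := h1 _ (g.1.pt_mem (η + (B η α / B ε α) • ε)) ((congrArg _ ea).mpr (g.1.pt_comm.2 (by rw [add_B, smul_B, div_mul_cancel₀ _ n, CharTwo.add_self_eq_zero])))
  rw [L.2 r _ _ f, Orth.Q_add, Orth.Q_add, polar_add_left, Orth.polar_smul_right', Orth.polar_smul_right', polar_comm _ _ (ι c), polar_comm _ _ (ι c), c0, c0,
    h.po _ (U _) _ (U _), g.2, ← f, L.1, Orth.Q_add, Orth.polar_smul_left', Orth.polar_smul_right', c0, Orth.Q_smul, Orth.Q_smul, Orth.Q_smul, c1, h2] at this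
  grind only

/-- `f v = polar (ι (pt v)) w`, `b = f 0` in a chart at `a`.  If `b ≠ 0` and `f v ≠ b` then `f (l • v) = 0` for `l (b + f v) = b`.  If `f v = b` for all `v`, take `B u v = 1`,
`r = 1` in `po_lh`. -/
theorem ex_perp (w : W) : ∃ c ∈ Cp D a, polar Q (ι c) w = 0 := by_contra fun n => by
  have n : ∀ c ∈ Cp D a, polar Q (ι c) w ≠ 0 := fun c hc e => n ⟨c, hc, e⟩
  obtain ⟨ψ, g⟩ := hβ a (cp_self ha)
  have L := s.po_lh ha hβ h w a (cp_self ha) ψ g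
  have b0 := n a (cp_self ha)
  have k1 : ∀ v, polar Q (ι (pt ψ a v)) w = polar Q (ι a) w := fun v => by_contra fun e =>
    n _ (s.pt_cp ha (cp_self ha) g.1 ((polar Q (ι a) w / (polar Q (ι a) w + polar Q (ι (pt ψ a v)) w)) • v)) ((L.1 _ v).trans (by simp only [smul_eq_mul]; grind only))
  obtain ⟨u, v, e, -⟩ := hyp3 (F := F) (x := 0) (y := 0) (z := 0) s.hk (.inr rfl)
  have := L.2 1 u v (by rw [e, one_pow])
  simp only [k1, CharTwo.add_self_eq_zero, zero_smul] at this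
  exact b0 this

/-- `c` from `ex_perp`; `v ↦ polar (ι (pt v)) w` is linear (`Lh.lin`), so it is `B v η`.  `x₀` from `β_one` for `c`; `w' = w + ι (pt η) + r • ι c` with
`r = polar (ι x₀) (w + ι (pt η))` is orthogonal to the neighbours of `c` and to `x₀`, so `w' = 0` (`fl`, `sp`); `1 = Q w = 1 + r²`. -/
theorem ι_sur (h1 : ∀ x ∈ Cp D a, Q (ι x) = 1) (hw : Q w = 1) : ∃ x ∈ Cp D a, ι x = w := by
  obtain ⟨c, hc, e⟩ := s.ex_perp ha hβ h w
  obtain ⟨ψ, g⟩ := hβ c hc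
  have U := s.pt_cp ha hc g.1
  obtain ⟨f, hf⟩ := (s.po_lh ha hβ h w).lin hc g e
  obtain ⟨η, rfl⟩ := (LinearMap.BilinForm.toDual _ (Symp.bil_nondegenerate (Fin k) F)).surjective f
  obtain ⟨x, hx, e1⟩ := s.β_one ha hβ hc
  have c0 : ∀ v, polar Q (ι (pt ψ c v)) (ι c) = 0 := fun v => by rw [h.po _ (U v) c hc, s.β_zero ha hβ (U v) hc]; exact (g.1.pt_cm v).symm
  obtain ⟨r, hr⟩ : ∃ r, r = polar Q (ι x) (w + ι (pt ψ c η)) := ⟨_, rfl⟩
  have z : w + (ι (pt ψ c η) + r • ι c) = 0 := h.sp _ fun y hy => s.fl ha hβ (s.po_lh ha hβ h _) hc hx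
    (fun o => one_ne_zero (e1.symm.trans ((s.β_zero ha hβ hc hx).2 o.symm))) (fun y hy o => by
      obtain ⟨v, rfl⟩ := g.1.ex hy o.symm
      rw [polar_add_right, polar_add_right, Orth.polar_smul_right', c0, h.po _ (U v) _ (U η), g.2, ← hf, mul_zero, add_zero, B_symm]
      exact CharTwo.add_self_eq_zero _)
    (by rw [← add_assoc, polar_add_right, ← hr, Orth.polar_smul_right', h.po x hx c hc, s.β_symm ha hβ hx hc, e1, mul_one, CharTwo.add_self_eq_zero]) hy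
  have z' : w = ι (pt ψ c η) + r • ι c := add_right_cancel (z.trans (v2 (F := F) _).symm)
  rw [z', Orth.Q_add, Orth.Q_smul, Orth.polar_smul_right', c0, h1 _ (U η), h1 c hc, mul_zero, add_zero, mul_one, add_eq_left, pow_eq_zero_iff two_ne_zero] at hw
  exact ⟨_, U η, by rw [z', hw, zero_smul, add_zero]⟩

/-- `σ` from `bt_sigma`.  `R w w' := ∀ x ∈ X, polar (ι (g x g⁻¹)) w' = σ (polar (ι x) w)`.  `w'` is unique (`ext`; `x ↦ g x g⁻¹` permutes `X`), exists by span induction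
(`R (ι y) (ι (g y g⁻¹))`).  The last claim by span induction on `v`. -/
theorem ι_sl [FiniteDimensional F W] (hg : g ∈ NX D a) : ∃ (σ : F ≃+* F) (f : W →+ W), (∀ c w, f (c • w) = σ c • f w) ∧
    (∀ x ∈ Cp D a, f (ι x) = ι (g * x * g⁻¹)) ∧ ∀ v w, polar Q (f v) (f w) = σ (polar Q v w) := by
  obtain ⟨σ, hσ⟩ := s.bt_sigma ha hβ hg
  have I : ∀ {p : W → Prop}, (∀ x ∈ Cp D a, p (ι x)) → p 0 → (∀ v w, p v → p w → p (v + w)) → (∀ (l : F) v, p v → p (l • v)) → ∀ w, p w :=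
    fun h1 h2 h3 h4 w => Submodule.span_induction (s := ι '' Cp D a) (fun _ ⟨x, m, e⟩ => e ▸ h1 x m) h2 (fun v w _ _ => h3 v w) (fun l v _ => h4 l v) (h.span.ge (Submodule.mem_top (x := w)))
  have R : ∀ y ∈ Cp D a, ∀ x ∈ Cp D a, polar Q (ι (g * x * g⁻¹)) (ι (g * y * g⁻¹)) = σ (polar Q (ι x) (ι y)) := fun y hy x hx => by
    rw [h.po _ (nx_cj hg hx) _ (nx_cj hg hy), h.po x hx y hy, hσ x hx y hy]
  have : ∀ w, ∃ w', ∀ x ∈ Cp D a, polar Q (ι (g * x * g⁻¹)) w' = σ (polar Q (ι x) w) :=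
    I (fun y hy => ⟨_, R y hy⟩) ⟨0, fun x _ => by rw [polar_zero_right, polar_zero_right, map_zero]⟩
      (fun v w ⟨v', p⟩ ⟨w', q⟩ => ⟨v' + w', fun x m => by rw [polar_add_right, polar_add_right, map_add, p x m, q x m]⟩)
      fun l v ⟨v', p⟩ => ⟨σ l • v', fun x m => by rw [Orth.polar_smul_right', Orth.polar_smul_right', map_mul, p x m]⟩
  choose f hf using this
  have U : ∀ {w w'}, (∀ x ∈ Cp D a, polar Q (ι (g * x * g⁻¹)) w = polar Q (ι (g * x * g⁻¹)) w') → w = w' := fun e => h.ext fun x hx => by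
    simpa [mul_assoc] using e _ (nx_cj (inv_mem hg) hx)
  have f1 : ∀ v w, f (v + w) = f v + f w := fun v w => U fun x m => by rw [hf _ x m, polar_add_right, polar_add_right, map_add, hf _ x m, hf _ x m]
  have f2 : ∀ (l : F) w, f (l • w) = σ l • f w := fun l w => U fun x m => by rw [hf _ x m, Orth.polar_smul_right', Orth.polar_smul_right', map_mul, hf _ x m]
  have f3 : ∀ x ∈ Cp D a, f (ι x) = ι (g * x * g⁻¹) := fun y hy => U fun x m => by rw [hf _ x m, R y hy x m]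
  refine ⟨σ, AddMonoidHom.mk' f f1, f2, f3, fun v w => I (p := fun v => polar Q (f v) (f w) = σ (polar Q v w)) (fun x m => by rw [f3 x m, hf _ x m]) ?_
    (fun u v p q => by rw [f1, polar_add_left, polar_add_left, map_add, p, q]) (fun l v p => by rw [f2, Orth.polar_smul_left', Orth.polar_smul_left', map_mul, p]) v⟩
  rw [← zero_smul F (0 : W), f2, Orth.polar_smul_left', Orth.polar_smul_left', zero_mul, map_zero, zero_mul]

theorem md (hd : Module.finrank F W = 2 * (k + 1)) (h1 : ∀ x ∈ Cp D a, Q (ι x) = 1) : Md k D a Q ι :=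
  have : FiniteDimensional F W := Module.finite_of_finrank_pos (by omega)
  ⟨h.nd, hd, h1, fun _ => s.ι_sur ha hβ h h1, fun _ hx _ => s.ι_inj ha hβ h hx, h.sp, fun x hx y hy => by rw [h.po x hx y hy, s.β_zero ha hβ hx hy],
    fun _ hx _ => s.ι_cj ha hβ h hx, fun c hc => (hβ c hc).imp fun ψ g => ⟨g.1, fun u v => by rw [h.po _ (s.pt_cp ha hc g.1 u) _ (s.pt_cp ha hc g.1 v), g.2],
      fun l _ _ => s.ι_ln ha hβ h hc g l⟩, fun _ => s.ι_sl ha hβ h⟩

end Dl

end Cfsg.Lib.SPD
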