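import Cfsg.Agent.Lib.SPD.Wa

/-!
# S3129, case `δ`: the quadratic space `F × F × V`.
-/

set_option autoImplicit false
set_option linter.unusedSectionVars false

namespace Cfsg.Lib.SPD

open Subgroup QuadraticMap
open scoped Matrix

variable {k : ℕ} {F G : Type*} [Field F] [Finite F] [CharP F 2] [Group G] [Finite G] {D : Set G} {ψ : J k F →* G}
  {a c e g x y z : G} {u v : V k F} {l m r : F} {β : G → G → F} {Q : QuadraticForm F (F × F × V k F)} {ν : G → V k F}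

/-- The coordinates of a point. -/
def io (β : G → G → F) (a e : G) (ν : G → V k F) (x : G) : F × F × V k F := (β x e, β x a, ν x)

/-- The data of the model. -/
structure Mo (D : Set G) (a e : G) (β : G → G → F) (ψ : J k F →* G) (Q : QuadraticForm F (F × F × V k F)) (ν : G → V k F) : Prop where
  gc : Gc D β ψ a
  he : e ∈ Cp D a
  h1 : β a e = 1
  hQ : ∀ l m v, Q (l, m, v) = l ^ 2 + l * m + m ^ 2 + (β e (pt ψ a v) + 1) ^ 2
  hP : ∀ l m v l' m' v', polar Q (l, m, v) (l', m', v') = l * m' + l' * m + B v v'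
  hν : ∀ x ∈ Cp D a, ∀ v, B (ν x) v = β x (pt ψ a v) + β x a * β e (pt ψ a v)

/-- A function `φ` with `φ (l • v) = l φ v`, `φ (u + v) = φ u + φ v + √(B u v)` gives a quadratic form. -/
theorem ex_Q {φ : V k F → F} (h1 : ∀ (l : F) v, φ (l • v) = l * φ v) (h2 : ∀ (r : F) u v, r ^ 2 = B u v → φ (u + v) = φ u + φ v + r) :
    ∃ Q : QuadraticForm F (F × F × V k F), (∀ l m v, Q (l, m, v) = l ^ 2 + l * m + m ^ 2 + φ v ^ 2) ∧
      ∀ l m v l' m' v', polar Q (l, m, v) (l', m', v') = l * m' + l' * m + B v v' := by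
  have k : ∀ u v, φ (u + v) ^ 2 = φ u ^ 2 + φ v ^ 2 + B u v := fun u v => let ⟨r, e⟩ := sqrt (B u v); by rw [h2 r u v e, ← e]; grind
  refine ⟨⟨fun w => w.1 ^ 2 + w.1 * w.2.1 + w.2.1 ^ 2 + φ w.2.2 ^ 2, fun c w => by simp only [Prod.smul_fst, Prod.smul_snd, h1, smul_eq_mul]; ring,
    LinearMap.mk₂ F (fun w w' => w.1 * w'.2.1 + w'.1 * w.2.1 + B w.2.2 w'.2.2) ?_ ?_ ?_ ?_, fun w w' => ?_⟩, fun _ _ _ => rfl, fun l m v l' m' v' => ?_⟩
  iterate 4 intros; simp only [Prod.smul_fst, Prod.smul_snd, Prod.fst_add, Prod.snd_add, smul_eq_mul]; bsp; ring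
  · simp only [Prod.fst_add, Prod.snd_add, k, LinearMap.mk₂_apply]; grind
  · change (l + l') ^ 2 + (l + l') * (m + m') + (m + m') ^ 2 + φ (v + v') ^ 2 - (l ^ 2 + l * m + m ^ 2 + φ v ^ 2) - (l' ^ 2 + l' * m' + m' ^ 2 + φ v' ^ 2) = _
    rw [k]; grind

/-- Nondegeneracy (`LinearMap.BilinForm.toDual`). -/
theorem ex_B (f : V k F →ₗ[F] F) : ∃ w, ∀ v, B w v = f v := ⟨_, LinearMap.BilinForm.apply_toDual_symm_apply (hB := Symp.bil_nondegenerate _ _) f⟩

namespace Dl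

variable (s : Dl k F D) (ha : a ∈ D) (hβ : Bt k D a β)
include s ha hβ

/-- `e` from `β_one`; `ex_Q` with `φ v = β e (pt v) + 1` (`β_lh`); `y ↦ β x y + β e y * β x a` is `Lh` and vanishes at `a`, `Lh.lin`, `ex_B`. -/
theorem ex_mo : ∃ (e : G) (ψ : J k F →* G) (Q : QuadraticForm F (F × F × V k F)) (ν : G → V k F), Mo D a e β ψ Q ν := by
  have a1 := cp_self ha
  obtain ⟨e, he, h1⟩ := s.β_one ha hβ a1
  obtain ⟨ψ, g⟩ := hβ a a1
  have h2 := (s.β_symm ha hβ he a1).trans h1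
  have L := s.β_lh ha hβ he a a1 ψ g
  obtain ⟨Q, q1, q2⟩ := ex_Q (φ := fun v => β e (pt ψ a v) + 1) (fun l v => by simp only [L.1, h2, smul_eq_mul]; grind)
    fun r u v i => by simp only [L.2 r u v i, h2, smul_eq_mul]; grind
  have (x : G) : ∃ w, x ∈ Cp D a → ∀ v, B w v = β x (pt ψ a v) + β x a * β e (pt ψ a v) := by
    by_cases hx : x ∈ Cp D a
    · obtain ⟨f, p⟩ := ((s.β_lh ha hβ hx).add ((s.β_lh ha hβ he).mul (β x a))).lin a1 g (by rw [h2, one_mul, CharTwo.add_self_eq_zero])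
      exact (ex_B f).imp fun w i _ v => by rw [i, p, mul_comm]
    · exact ⟨0, fun i => absurd i hx⟩
  choose ν hν using this
  exact ⟨e, ψ, Q, ν, g, he, h1, q1, q2, hν⟩

variable (h : Mo D a e β ψ Q ν)
include h

theorem io_nc : ¬ Commute e a := fun c => zero_ne_one (((s.β_zero ha hβ (cp_self ha) h.he).2 c.symm).symm.trans h.h1)
theorem io_pt (v : V k F) : io β a e ν (pt ψ a v) = (β e (pt ψ a v), 0, v) := by
  have p := cp_cm (h.gc.1.pt_mem v) (h.gc.1.pt_cm v)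
  have z := (s.β_zero ha hβ p (cp_self ha)).2 (h.gc.1.pt_cm v).symm
  rw [io, s.β_symm ha hβ p h.he, z, sub_eq_zero.1 (B_nd (u := ν (pt ψ a v) - v) fun x => by
    rw [B, map_sub, ← B, B_symm, h.hν _ p, z, h.gc.2, B_symm, zero_mul, add_zero, sub_self])]

theorem io_a : io β a e ν a = (1, 0, 0) := by
  simpa only [pt_zero, (s.β_symm ha hβ h.he (cp_self ha)).trans h.h1] using s.io_pt ha hβ h 0

theorem io_e : io β a e ν e = (0, 1, 0) := by
  have z := (s.β_symm ha hβ h.he (cp_self ha)).trans h.h1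
  rw [io, (s.β_zero ha hβ h.he h.he).2 (.refl e), z, B_nd (u := ν e) fun x => by rw [B_symm, h.hν _ h.he, z, one_mul, CharTwo.add_self_eq_zero]]

/-- `polar (io y) (l, m, v) = β e y * m + β a y * l + β (pt v) y + β a y * β e (pt v)` on `X`; `β_lh`, `Lh.add`, `Lh.mul` (`Lh` only sees points of `X`). -/
theorem io_lh (w : F × F × V k F) : Lh k D a β fun y => polar Q (io β a e ν y) w := by
  obtain ⟨l, m, v⟩ := w
  have a1 := cp_self ha
  have p := cp_cm (h.gc.1.pt_mem v) (h.gc.1.pt_cm v)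
  have L := (((s.β_lh ha hβ h.he).mul m).add ((s.β_lh ha hβ a1).mul l)).add ((s.β_lh ha hβ p).add ((s.β_lh ha hβ a1).mul (β e (pt ψ a v))))
  have k : ∀ y ∈ Cp D a, polar Q (io β a e ν y) (l, m, v) = β e y * m + β a y * l + (β (pt ψ a v) y + β a y * β e (pt ψ a v)) := fun y hy => by
    rw [io, h.hP, h.hν y hy, s.β_symm ha hβ hy h.he, s.β_symm ha hβ hy a1, s.β_symm ha hβ hy p, mul_comm l]
  intro c hc χ g
  have k' := fun u => k _ (s.cp_adj ha hc (g.1.pt_mem u) (g.1.pt_cm u))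
  simpa only [k', k c hc] using L c hc χ g

/-- `fl` for `y ↦ polar (io y) (io x) + β x y` with `c₀ = a`, `x₀ = e`. -/
theorem io_po (hx : x ∈ Cp D a) (hy : y ∈ Cp D a) : polar Q (io β a e ν x) (io β a e ν y) = β x y := by
  refine CharTwo.add_eq_zero.1 (s.fl ha hβ ((s.io_lh ha hβ h (io β a e ν y)).add (s.β_lh ha hβ hy)) (cp_self ha) h.he (s.io_nc ha hβ h) (fun z i j => ?_) ?_ hx) |>.trans
    (s.β_symm ha hβ hy hx)
  · obtain ⟨v, rfl⟩ := h.gc.1.ex i j.symm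
    simp only [s.io_pt ha hβ h]
    rw [io, h.hP, B_symm, h.hν y hy]; grind
  · simp only [s.io_e ha hβ h]
    rw [io, h.hP, zero_B]; grind

/-- Test against `a`, `e`, `pt v`. -/
theorem io_m0 : M0 D a β Q (io β a e ν) := ⟨fun _ hx _ hy => s.io_po ha hβ h hx hy, fun ⟨l, m, v⟩ p => by
  obtain rfl : m = 0 := by simpa [s.io_a ha hβ h, h.hP, zero_B] using p a (cp_self ha)
  obtain rfl : l = 0 := by simpa [s.io_e ha hβ h, h.hP, zero_B] using p e h.he
  rw [B_nd (u := v) fun u => by simpa [s.io_pt ha hβ h, h.hP] using p _ (cp_cm (h.gc.1.pt_mem u) (h.gc.1.pt_cm u))]; rfl⟩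

omit hβ h in
/-- `exists_bt`, `ex_mo`, `md`, `ι_one`. -/
theorem exists_md : ∃ (Q : QuadraticForm F (F × F × V k F)) (ι : G → F × F × V k F), Md k D a Q ι := by
  obtain ⟨β, hβ⟩ := s.exists_bt ha
  obtain ⟨e, ψ, Q, ν, h⟩ := s.ex_mo ha hβ
  refine ⟨Q, _, s.md ha hβ (s.io_m0 ha hβ h) (by simp; omega) fun x => s.ι_one ha hβ (s.io_m0 ha hβ h) h.he (s.io_nc ha hβ h) (fun y i j => ?_) ?_⟩
  · obtain ⟨v, rfl⟩ := h.gc.1.ex i j.symm
    rw [s.io_pt ha hβ h, h.hQ]; grind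
  · rw [s.io_e ha hβ h, h.hQ, pt_zero, (s.β_symm ha hβ h.he (cp_self ha)).trans h.h1]; grind

end Dl

end Cfsg.Lib.SPD
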